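/-!
Six inequivalent solutions of a weighted circle equation, for every multiset of six norms.
-/

set_option autoImplicit false

namespace CfsgLib.SUSix96.Mono

/-- Solutions for the prime 5, part 0. -/
def sols5p0 : List (List Nat × List (List Nat)) :=
  [([1, 1, 1, 1, 1, 1], [[0, 1, 5, 0, 0, 0], [0, 5, 1, 0, 0, 0], [1, 0, 5, 0, 0, 0], [1, 5, 0, 0, 0, 0], [5, 0, 1, 0, 0, 0], [5, 1, 0, 0, 0, 0]]),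
   ([1, 1, 1, 1, 3, 4], [[0, 1, 5, 0, 0, 0], [0, 5, 1, 0, 0, 0], [1, 0, 5, 0, 0, 0], [1, 5, 0, 0, 0, 0], [5, 0, 1, 0, 0, 0], [5, 1, 0, 0, 0, 0]]),
   ([1, 1, 1, 2, 2, 4], [[0, 1, 5, 0, 0, 0], [0, 5, 1, 0, 0, 0], [1, 0, 5, 0, 0, 0], [1, 5, 0, 0, 0, 0], [5, 0, 1, 0, 0, 0], [5, 1, 0, 0, 0, 0]]),
   ([1, 1, 1, 2, 3, 3], [[0, 1, 5, 0, 0, 0], [0, 5, 1, 0, 0, 0], [1, 0, 5, 0, 0, 0], [1, 5, 0, 0, 0, 0], [5, 0, 1, 0, 0, 0], [5, 1, 0, 0, 0, 0]]),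
   ([1, 1, 2, 2, 2, 3], [[0, 3, 3, 0, 0, 0], [1, 5, 0, 0, 0, 0], [3, 0, 3, 0, 0, 0], [5, 1, 0, 0, 0, 0], [0, 5, 5, 0, 0, 2], [5, 0, 5, 0, 0, 2]]),
   ([1, 1, 2, 4, 4, 4], [[0, 3, 3, 0, 0, 0], [1, 5, 0, 0, 0, 0], [3, 0, 3, 0, 0, 0], [5, 1, 0, 0, 0, 0], [1, 3, 0, 0, 0, 2], [3, 1, 0, 0, 0, 2]]),
   ([1, 1, 3, 3, 4, 4], [[1, 5, 0, 0, 0, 0], [5, 1, 0, 0, 0, 0], [4, 5, 2, 0, 0, 1], [5, 4, 2, 0, 0, 1], [1, 3, 0, 0, 0, 2], [3, 1, 0, 0, 0, 2]]),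
   ([1, 2, 2, 2, 2, 2], [[0, 2, 4, 0, 0, 0], [0, 4, 2, 0, 0, 0], [3, 0, 3, 0, 0, 0], [3, 3, 0, 0, 0, 0], [0, 0, 4, 0, 0, 2], [0, 4, 0, 0, 0, 2]]),
   ([1, 2, 2, 3, 4, 4], [[0, 2, 4, 0, 0, 0], [0, 4, 2, 0, 0, 0], [3, 0, 3, 0, 0, 0], [3, 3, 0, 0, 0, 0], [5, 2, 3, 0, 0, 2], [5, 3, 2, 0, 0, 2]]),
   ([1, 2, 3, 3, 3, 4], [[1, 1, 4, 0, 0, 0], [3, 3, 0, 0, 0, 0], [5, 5, 2, 0, 0, 0], [1, 2, 1, 0, 0, 2], [1, 4, 5, 0, 0, 2], [3, 5, 2, 0, 0, 2]]),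
   ([1, 3, 3, 3, 3, 3], [[1, 2, 2, 0, 0, 1], [3, 3, 5, 0, 0, 1], [3, 5, 3, 0, 0, 1], [1, 1, 2, 0, 0, 2], [1, 2, 1, 0, 0, 2], [3, 1, 5, 0, 0, 3]]),
   ([1, 4, 4, 4, 4, 4], [[0, 3, 3, 0, 0, 0], [0, 0, 3, 0, 0, 3], [0, 3, 0, 0, 0, 3], [3, 3, 3, 0, 0, 3], [0, 4, 5, 0, 1, 2], [0, 5, 4, 0, 1, 2]]),
   ([2, 2, 2, 2, 4, 4], [[0, 2, 4, 0, 0, 0], [0, 4, 2, 0, 0, 0], [2, 0, 4, 0, 0, 0], [2, 4, 0, 0, 0, 0], [4, 0, 2, 0, 0, 0], [4, 2, 0, 0, 0, 0]]),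
   ([2, 2, 2, 3, 3, 4], [[0, 2, 4, 0, 0, 0], [0, 4, 2, 0, 0, 0], [2, 0, 4, 0, 0, 0], [2, 4, 0, 0, 0, 0], [4, 0, 2, 0, 0, 0], [4, 2, 0, 0, 0, 0]]),
   ([2, 2, 3, 3, 3, 3], [[2, 3, 1, 0, 0, 0], [2, 4, 0, 0, 0, 0], [3, 2, 1, 0, 0, 0], [3, 4, 5, 0, 0, 0], [4, 2, 0, 0, 0, 0], [4, 3, 5, 0, 0, 0]]),
   ([2, 3, 4, 4, 4, 4], [[1, 2, 3, 0, 0, 0], [5, 4, 3, 0, 0, 0], [0, 4, 1, 0, 0, 1], [1, 3, 1, 0, 0, 1], [0, 0, 3, 0, 0, 3], [1, 2, 0, 0, 0, 3]]),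
   ([3, 3, 3, 4, 4, 4], [[1, 1, 3, 0, 0, 1], [1, 3, 1, 0, 0, 1], [3, 1, 1, 0, 0, 1], [3, 3, 3, 0, 0, 3], [3, 5, 5, 0, 0, 5], [5, 3, 5, 0, 0, 5]])]

/-- Solutions for the prime 5. -/
def sols5 : List (List Nat × List (List Nat)) :=
  sols5p0

/-- Powers of a generator of the circle for the prime 5. -/
def circ5 : List (Nat × Nat) := [(1, 0), (3, 2), (2, 2), (4, 0), (2, 3), (3, 3)]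

/-- Solutions for the prime 11, part 0. -/
def sols11p0 : List (List Nat × List (List Nat)) :=
  [([1, 1, 1, 1, 1, 7], [[0, 2, 10, 0, 0, 0], [0, 10, 2, 0, 0, 0], [2, 0, 10, 0, 0, 0], [2, 10, 0, 0, 0, 0], [10, 0, 2, 0, 0, 0], [10, 2, 0, 0, 0, 0]]),
   ([1, 1, 1, 1, 2, 6], [[0, 2, 10, 0, 0, 0], [0, 10, 2, 0, 0, 0], [2, 0, 10, 0, 0, 0], [2, 10, 0, 0, 0, 0], [10, 0, 2, 0, 0, 0], [10, 2, 0, 0, 0, 0]]),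
   ([1, 1, 1, 1, 3, 5], [[0, 2, 10, 0, 0, 0], [0, 10, 2, 0, 0, 0], [2, 0, 10, 0, 0, 0], [2, 10, 0, 0, 0, 0], [10, 0, 2, 0, 0, 0], [10, 2, 0, 0, 0, 0]]),
   ([1, 1, 1, 1, 4, 4], [[0, 2, 10, 0, 0, 0], [0, 10, 2, 0, 0, 0], [2, 0, 10, 0, 0, 0], [2, 10, 0, 0, 0, 0], [10, 0, 2, 0, 0, 0], [10, 2, 0, 0, 0, 0]]),
   ([1, 1, 1, 1, 9, 10], [[0, 2, 10, 0, 0, 0], [0, 10, 2, 0, 0, 0], [2, 0, 10, 0, 0, 0], [2, 10, 0, 0, 0, 0], [10, 0, 2, 0, 0, 0], [10, 2, 0, 0, 0, 0]]),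
   ([1, 1, 1, 2, 2, 5], [[0, 2, 10, 0, 0, 0], [0, 10, 2, 0, 0, 0], [2, 0, 10, 0, 0, 0], [2, 10, 0, 0, 0, 0], [10, 0, 2, 0, 0, 0], [10, 2, 0, 0, 0, 0]]),
   ([1, 1, 1, 2, 3, 4], [[0, 2, 10, 0, 0, 0], [0, 10, 2, 0, 0, 0], [2, 0, 10, 0, 0, 0], [2, 10, 0, 0, 0, 0], [10, 0, 2, 0, 0, 0], [10, 2, 0, 0, 0, 0]]),
   ([1, 1, 1, 2, 8, 10], [[0, 2, 10, 0, 0, 0], [0, 10, 2, 0, 0, 0], [2, 0, 10, 0, 0, 0], [2, 10, 0, 0, 0, 0], [10, 0, 2, 0, 0, 0], [10, 2, 0, 0, 0, 0]]),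
   ([1, 1, 1, 2, 9, 9], [[0, 2, 10, 0, 0, 0], [0, 10, 2, 0, 0, 0], [2, 0, 10, 0, 0, 0], [2, 10, 0, 0, 0, 0], [10, 0, 2, 0, 0, 0], [10, 2, 0, 0, 0, 0]]),
   ([1, 1, 1, 3, 3, 3], [[0, 2, 10, 0, 0, 0], [0, 10, 2, 0, 0, 0], [2, 0, 10, 0, 0, 0], [2, 10, 0, 0, 0, 0], [10, 0, 2, 0, 0, 0], [10, 2, 0, 0, 0, 0]]),
   ([1, 1, 1, 3, 7, 10], [[0, 2, 10, 0, 0, 0], [0, 10, 2, 0, 0, 0], [2, 0, 10, 0, 0, 0], [2, 10, 0, 0, 0, 0], [10, 0, 2, 0, 0, 0], [10, 2, 0, 0, 0, 0]]),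
   ([1, 1, 1, 3, 8, 9], [[0, 2, 10, 0, 0, 0], [0, 10, 2, 0, 0, 0], [2, 0, 10, 0, 0, 0], [2, 10, 0, 0, 0, 0], [10, 0, 2, 0, 0, 0], [10, 2, 0, 0, 0, 0]]),
   ([1, 1, 1, 4, 6, 10], [[0, 2, 10, 0, 0, 0], [0, 10, 2, 0, 0, 0], [2, 0, 10, 0, 0, 0], [2, 10, 0, 0, 0, 0], [10, 0, 2, 0, 0, 0], [10, 2, 0, 0, 0, 0]]),
   ([1, 1, 1, 4, 7, 9], [[0, 2, 10, 0, 0, 0], [0, 10, 2, 0, 0, 0], [2, 0, 10, 0, 0, 0], [2, 10, 0, 0, 0, 0], [10, 0, 2, 0, 0, 0], [10, 2, 0, 0, 0, 0]]),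
   ([1, 1, 1, 4, 8, 8], [[0, 2, 10, 0, 0, 0], [0, 10, 2, 0, 0, 0], [2, 0, 10, 0, 0, 0], [2, 10, 0, 0, 0, 0], [10, 0, 2, 0, 0, 0], [10, 2, 0, 0, 0, 0]]),
   ([1, 1, 1, 5, 5, 10], [[0, 2, 10, 0, 0, 0], [0, 10, 2, 0, 0, 0], [2, 0, 10, 0, 0, 0], [2, 10, 0, 0, 0, 0], [10, 0, 2, 0, 0, 0], [10, 2, 0, 0, 0, 0]]),
   ([1, 1, 1, 5, 6, 9], [[0, 2, 10, 0, 0, 0], [0, 10, 2, 0, 0, 0], [2, 0, 10, 0, 0, 0], [2, 10, 0, 0, 0, 0], [10, 0, 2, 0, 0, 0], [10, 2, 0, 0, 0, 0]]),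
   ([1, 1, 1, 5, 7, 8], [[0, 2, 10, 0, 0, 0], [0, 10, 2, 0, 0, 0], [2, 0, 10, 0, 0, 0], [2, 10, 0, 0, 0, 0], [10, 0, 2, 0, 0, 0], [10, 2, 0, 0, 0, 0]]),
   ([1, 1, 1, 6, 6, 8], [[0, 2, 10, 0, 0, 0], [0, 10, 2, 0, 0, 0], [2, 0, 10, 0, 0, 0], [2, 10, 0, 0, 0, 0], [10, 0, 2, 0, 0, 0], [10, 2, 0, 0, 0, 0]]),
   ([1, 1, 1, 6, 7, 7], [[0, 2, 10, 0, 0, 0], [0, 10, 2, 0, 0, 0], [2, 0, 10, 0, 0, 0], [2, 10, 0, 0, 0, 0], [10, 0, 2, 0, 0, 0], [10, 2, 0, 0, 0, 0]]),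
   ([1, 1, 2, 2, 2, 4], [[2, 10, 0, 0, 0, 0], [10, 2, 0, 0, 0, 0], [1, 4, 6, 0, 0, 1], [4, 1, 6, 0, 0, 1], [2, 9, 10, 0, 0, 3], [9, 2, 10, 0, 0, 3]]),
   ([1, 1, 2, 2, 3, 3], [[2, 10, 0, 0, 0, 0], [10, 2, 0, 0, 0, 0], [4, 11, 6, 0, 0, 3], [11, 4, 6, 0, 0, 3], [1, 3, 4, 0, 0, 4], [3, 1, 4, 0, 0, 4]]),
   ([1, 1, 2, 2, 7, 10], [[2, 10, 0, 0, 0, 0], [10, 2, 0, 0, 0, 0], [8, 10, 5, 0, 0, 1], [10, 8, 5, 0, 0, 1], [7, 10, 5, 0, 0, 2], [10, 7, 5, 0, 0, 2]]),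
   ([1, 1, 2, 2, 8, 9], [[2, 10, 0, 0, 0, 0], [10, 2, 0, 0, 0, 0], [0, 2, 9, 0, 0, 1], [2, 0, 9, 0, 0, 1], [0, 2, 7, 0, 0, 3], [2, 0, 7, 0, 0, 3]]),
   ([1, 1, 2, 3, 6, 10], [[2, 10, 0, 0, 0, 0], [10, 2, 0, 0, 0, 0], [8, 10, 5, 0, 0, 1], [10, 8, 5, 0, 0, 1], [7, 10, 5, 0, 0, 2], [10, 7, 5, 0, 0, 2]]),
   ([1, 1, 2, 3, 7, 9], [[2, 10, 0, 0, 0, 0], [10, 2, 0, 0, 0, 0], [0, 2, 9, 0, 0, 1], [2, 0, 9, 0, 0, 1], [0, 2, 7, 0, 0, 3], [2, 0, 7, 0, 0, 3]]),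
   ([1, 1, 2, 3, 8, 8], [[2, 10, 0, 0, 0, 0], [10, 2, 0, 0, 0, 0], [1, 5, 3, 0, 0, 3], [5, 1, 3, 0, 0, 3], [4, 8, 6, 0, 0, 6], [8, 4, 6, 0, 0, 6]]),
   ([1, 1, 2, 4, 5, 10], [[2, 10, 0, 0, 0, 0], [10, 2, 0, 0, 0, 0], [8, 10, 5, 0, 0, 1], [10, 8, 5, 0, 0, 1], [7, 10, 5, 0, 0, 2], [10, 7, 5, 0, 0, 2]]),
   ([1, 1, 2, 4, 6, 9], [[2, 10, 0, 0, 0, 0], [10, 2, 0, 0, 0, 0], [0, 2, 9, 0, 0, 1], [2, 0, 9, 0, 0, 1], [0, 2, 7, 0, 0, 3], [2, 0, 7, 0, 0, 3]]),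
   ([1, 1, 2, 4, 7, 8], [[2, 10, 0, 0, 0, 0], [10, 2, 0, 0, 0, 0], [1, 5, 3, 0, 0, 3], [5, 1, 3, 0, 0, 3], [4, 8, 6, 0, 0, 6], [8, 4, 6, 0, 0, 6]]),
   ([1, 1, 2, 5, 5, 9], [[2, 10, 0, 0, 0, 0], [10, 2, 0, 0, 0, 0], [0, 2, 9, 0, 0, 1], [2, 0, 9, 0, 0, 1], [0, 2, 7, 0, 0, 3], [2, 0, 7, 0, 0, 3]]),
   ([1, 1, 2, 5, 6, 8], [[2, 10, 0, 0, 0, 0], [10, 2, 0, 0, 0, 0], [1, 5, 3, 0, 0, 3], [5, 1, 3, 0, 0, 3], [4, 8, 6, 0, 0, 6], [8, 4, 6, 0, 0, 6]]),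
   ([1, 1, 2, 5, 7, 7], [[2, 10, 0, 0, 0, 0], [10, 2, 0, 0, 0, 0], [0, 4, 7, 0, 0, 1], [1, 7, 3, 0, 0, 1], [4, 0, 7, 0, 0, 1], [5, 5, 1, 0, 0, 1]]),
   ([1, 1, 2, 6, 6, 7], [[2, 10, 0, 0, 0, 0], [10, 2, 0, 0, 0, 0], [0, 4, 7, 0, 0, 1], [1, 7, 3, 0, 0, 1], [4, 0, 7, 0, 0, 1], [5, 5, 1, 0, 0, 1]]),
   ([1, 1, 2, 10, 10, 10], [[2, 10, 0, 0, 0, 0], [10, 2, 0, 0, 0, 0], [8, 10, 5, 0, 0, 1], [10, 8, 5, 0, 0, 1], [7, 10, 5, 0, 0, 2], [10, 7, 5, 0, 0, 2]]),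
   ([1, 1, 3, 3, 5, 10], [[2, 10, 0, 0, 0, 0], [10, 2, 0, 0, 0, 0], [0, 5, 6, 0, 0, 1], [5, 0, 6, 0, 0, 1], [2, 6, 0, 0, 0, 4], [6, 2, 0, 0, 0, 4]]),
   ([1, 1, 3, 3, 6, 9], [[2, 10, 0, 0, 0, 0], [10, 2, 0, 0, 0, 0], [6, 9, 5, 0, 0, 4], [9, 6, 5, 0, 0, 4], [5, 10, 4, 0, 0, 5], [10, 5, 4, 0, 0, 5]]),
   ([1, 1, 3, 3, 7, 8], [[2, 10, 0, 0, 0, 0], [10, 2, 0, 0, 0, 0], [2, 6, 11, 0, 0, 5], [6, 2, 11, 0, 0, 5], [2, 10, 6, 0, 0, 6], [10, 2, 6, 0, 0, 6]]),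
   ([1, 1, 3, 4, 4, 10], [[2, 10, 0, 0, 0, 0], [10, 2, 0, 0, 0, 0], [0, 5, 6, 0, 0, 1], [5, 0, 6, 0, 0, 1], [2, 6, 0, 0, 0, 4], [6, 2, 0, 0, 0, 4]]),
   ([1, 1, 3, 4, 5, 9], [[2, 10, 0, 0, 0, 0], [10, 2, 0, 0, 0, 0], [6, 9, 5, 0, 0, 4], [9, 6, 5, 0, 0, 4], [5, 10, 4, 0, 0, 5], [10, 5, 4, 0, 0, 5]])]

/-- Solutions for the prime 11, part 1. -/
def sols11p1 : List (List Nat × List (List Nat)) :=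
  [([1, 1, 3, 4, 6, 8], [[2, 10, 0, 0, 0, 0], [10, 2, 0, 0, 0, 0], [2, 6, 11, 0, 0, 5], [6, 2, 11, 0, 0, 5], [2, 10, 6, 0, 0, 6], [10, 2, 6, 0, 0, 6]]),
   ([1, 1, 3, 4, 7, 7], [[2, 10, 0, 0, 0, 0], [10, 2, 0, 0, 0, 0], [1, 5, 3, 0, 0, 3], [5, 1, 3, 0, 0, 3], [4, 8, 6, 0, 0, 6], [8, 4, 6, 0, 0, 6]]),
   ([1, 1, 3, 5, 5, 8], [[2, 10, 0, 0, 0, 0], [10, 2, 0, 0, 0, 0], [2, 6, 11, 0, 0, 5], [6, 2, 11, 0, 0, 5], [2, 10, 6, 0, 0, 6], [10, 2, 6, 0, 0, 6]]),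
   ([1, 1, 3, 5, 6, 7], [[2, 10, 0, 0, 0, 0], [10, 2, 0, 0, 0, 0], [1, 5, 3, 0, 0, 3], [5, 1, 3, 0, 0, 3], [4, 8, 6, 0, 0, 6], [8, 4, 6, 0, 0, 6]]),
   ([1, 1, 3, 6, 6, 6], [[2, 10, 0, 0, 0, 0], [10, 2, 0, 0, 0, 0], [5, 5, 1, 0, 0, 1], [2, 11, 6, 0, 0, 5], [11, 2, 6, 0, 0, 5], [1, 10, 6, 0, 0, 7]]),
   ([1, 1, 3, 9, 10, 10], [[2, 10, 0, 0, 0, 0], [10, 2, 0, 0, 0, 0], [0, 5, 6, 0, 0, 1], [5, 0, 6, 0, 0, 1], [2, 6, 0, 0, 0, 4], [6, 2, 0, 0, 0, 4]]),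
   ([1, 1, 4, 4, 4, 9], [[2, 10, 0, 0, 0, 0], [10, 2, 0, 0, 0, 0], [8, 10, 2, 0, 0, 4], [10, 8, 2, 0, 0, 4], [5, 7, 6, 0, 0, 6], [7, 5, 6, 0, 0, 6]]),
   ([1, 1, 4, 4, 5, 8], [[2, 10, 0, 0, 0, 0], [10, 2, 0, 0, 0, 0], [1, 6, 4, 0, 0, 1], [2, 11, 10, 0, 0, 1], [4, 10, 9, 0, 0, 1], [6, 1, 4, 0, 0, 1]]),
   ([1, 1, 4, 4, 6, 7], [[2, 10, 0, 0, 0, 0], [10, 2, 0, 0, 0, 0], [2, 10, 6, 0, 0, 6], [10, 2, 6, 0, 0, 6], [9, 10, 4, 0, 1, 0], [10, 9, 4, 0, 1, 0]]),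
   ([1, 1, 4, 5, 5, 7], [[2, 10, 0, 0, 0, 0], [10, 2, 0, 0, 0, 0], [2, 10, 6, 0, 0, 6], [10, 2, 6, 0, 0, 6], [5, 5, 1, 0, 1, 0], [8, 11, 4, 0, 1, 0]]),
   ([1, 1, 4, 5, 6, 6], [[2, 10, 0, 0, 0, 0], [10, 2, 0, 0, 0, 0], [9, 10, 4, 0, 0, 1], [10, 9, 4, 0, 0, 1], [5, 6, 11, 0, 0, 2], [6, 5, 11, 0, 0, 2]]),
   ([1, 1, 4, 8, 10, 10], [[2, 10, 0, 0, 0, 0], [10, 2, 0, 0, 0, 0], [0, 7, 4, 0, 0, 1], [7, 0, 4, 0, 0, 1], [2, 6, 0, 0, 0, 4], [6, 2, 0, 0, 0, 4]]),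
   ([1, 1, 4, 9, 9, 10], [[2, 10, 0, 0, 0, 0], [10, 2, 0, 0, 0, 0], [0, 7, 4, 0, 0, 1], [7, 0, 4, 0, 0, 1], [2, 6, 0, 0, 0, 4], [6, 2, 0, 0, 0, 4]]),
   ([1, 1, 5, 5, 5, 6], [[0, 6, 6, 0, 0, 0], [2, 10, 0, 0, 0, 0], [6, 0, 6, 0, 0, 0], [10, 2, 0, 0, 0, 0], [2, 6, 3, 0, 0, 1], [6, 2, 3, 0, 0, 1]]),
   ([1, 1, 5, 7, 10, 10], [[0, 6, 6, 0, 0, 0], [2, 10, 0, 0, 0, 0], [6, 0, 6, 0, 0, 0], [10, 2, 0, 0, 0, 0], [2, 6, 0, 0, 0, 4], [6, 2, 0, 0, 0, 4]]),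
   ([1, 1, 5, 8, 9, 10], [[0, 6, 6, 0, 0, 0], [2, 10, 0, 0, 0, 0], [6, 0, 6, 0, 0, 0], [10, 2, 0, 0, 0, 0], [2, 6, 0, 0, 0, 4], [6, 2, 0, 0, 0, 4]]),
   ([1, 1, 5, 9, 9, 9], [[0, 6, 6, 0, 0, 0], [2, 10, 0, 0, 0, 0], [6, 0, 6, 0, 0, 0], [10, 2, 0, 0, 0, 0], [5, 6, 10, 0, 0, 3], [6, 5, 10, 0, 0, 3]]),
   ([1, 1, 6, 6, 10, 10], [[2, 10, 0, 0, 0, 0], [10, 2, 0, 0, 0, 0], [0, 3, 6, 0, 0, 3], [2, 11, 8, 0, 0, 3], [3, 0, 6, 0, 0, 3], [11, 2, 8, 0, 0, 3]]),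
   ([1, 1, 6, 7, 9, 10], [[2, 10, 0, 0, 0, 0], [10, 2, 0, 0, 0, 0], [0, 3, 6, 0, 0, 3], [2, 11, 8, 0, 0, 3], [3, 0, 6, 0, 0, 3], [11, 2, 8, 0, 0, 3]]),
   ([1, 1, 6, 8, 8, 10], [[2, 10, 0, 0, 0, 0], [10, 2, 0, 0, 0, 0], [0, 3, 6, 0, 0, 3], [2, 11, 8, 0, 0, 3], [3, 0, 6, 0, 0, 3], [11, 2, 8, 0, 0, 3]]),
   ([1, 1, 6, 8, 9, 9], [[2, 10, 0, 0, 0, 0], [10, 2, 0, 0, 0, 0], [2, 2, 6, 0, 0, 2], [1, 6, 2, 0, 0, 3], [6, 1, 2, 0, 0, 3], [4, 7, 8, 0, 0, 5]]),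
   ([1, 1, 7, 7, 8, 10], [[2, 10, 0, 0, 0, 0], [10, 2, 0, 0, 0, 0], [0, 3, 7, 0, 0, 2], [3, 0, 7, 0, 0, 2], [0, 4, 5, 0, 0, 3], [4, 0, 5, 0, 0, 3]]),
   ([1, 1, 7, 7, 9, 9], [[2, 10, 0, 0, 0, 0], [10, 2, 0, 0, 0, 0], [10, 10, 3, 0, 0, 1], [7, 8, 6, 0, 0, 3], [8, 7, 6, 0, 0, 3], [1, 3, 4, 0, 0, 4]]),
   ([1, 1, 7, 8, 8, 9], [[2, 10, 0, 0, 0, 0], [10, 2, 0, 0, 0, 0], [10, 10, 3, 0, 0, 1], [7, 8, 6, 0, 0, 3], [8, 7, 6, 0, 0, 3], [1, 3, 4, 0, 0, 4]]),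
   ([1, 1, 8, 8, 8, 8], [[2, 10, 0, 0, 0, 0], [10, 2, 0, 0, 0, 0], [0, 0, 11, 0, 0, 1], [6, 6, 10, 0, 0, 2], [1, 11, 9, 0, 0, 3], [5, 10, 6, 0, 0, 3]]),
   ([1, 2, 2, 2, 2, 3], [[4, 1, 6, 0, 0, 1], [4, 6, 1, 0, 0, 1], [0, 5, 5, 0, 0, 2], [4, 8, 8, 0, 0, 4], [11, 10, 10, 0, 0, 5], [6, 3, 9, 0, 0, 6]]),
   ([1, 2, 2, 2, 6, 10], [[4, 9, 10, 0, 0, 1], [4, 10, 9, 0, 0, 1], [5, 2, 3, 0, 0, 2], [5, 3, 2, 0, 0, 2], [7, 9, 10, 0, 0, 10], [7, 10, 9, 0, 0, 10]]),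
   ([1, 2, 2, 2, 7, 9], [[2, 0, 9, 0, 0, 1], [2, 9, 0, 0, 0, 1], [2, 0, 7, 0, 0, 3], [2, 7, 0, 0, 0, 3], [6, 0, 1, 0, 0, 5], [6, 1, 0, 0, 0, 5]]),
   ([1, 2, 2, 2, 8, 8], [[3, 2, 6, 0, 0, 1], [3, 6, 2, 0, 0, 1], [4, 8, 11, 0, 0, 1], [4, 11, 8, 0, 0, 1], [1, 2, 4, 0, 0, 5], [1, 4, 2, 0, 0, 5]]),
   ([1, 2, 2, 3, 5, 10], [[4, 9, 10, 0, 0, 1], [4, 10, 9, 0, 0, 1], [5, 2, 3, 0, 0, 2], [5, 3, 2, 0, 0, 2], [7, 9, 10, 0, 0, 10], [7, 10, 9, 0, 0, 10]]),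
   ([1, 2, 2, 3, 6, 9], [[2, 0, 9, 0, 0, 1], [2, 9, 0, 0, 0, 1], [2, 0, 7, 0, 0, 3], [2, 7, 0, 0, 0, 3], [6, 0, 1, 0, 0, 5], [6, 1, 0, 0, 0, 5]]),
   ([1, 2, 2, 3, 7, 8], [[3, 2, 6, 0, 0, 1], [3, 6, 2, 0, 0, 1], [4, 8, 11, 0, 0, 1], [4, 11, 8, 0, 0, 1], [1, 2, 4, 0, 0, 5], [1, 4, 2, 0, 0, 5]]),
   ([1, 2, 2, 4, 4, 10], [[4, 9, 10, 0, 0, 1], [4, 10, 9, 0, 0, 1], [5, 2, 3, 0, 0, 2], [5, 3, 2, 0, 0, 2], [7, 9, 10, 0, 0, 10], [7, 10, 9, 0, 0, 10]]),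
   ([1, 2, 2, 4, 5, 9], [[2, 0, 9, 0, 0, 1], [2, 9, 0, 0, 0, 1], [2, 0, 7, 0, 0, 3], [2, 7, 0, 0, 0, 3], [6, 0, 1, 0, 0, 5], [6, 1, 0, 0, 0, 5]]),
   ([1, 2, 2, 4, 6, 8], [[3, 2, 6, 0, 0, 1], [3, 6, 2, 0, 0, 1], [4, 8, 11, 0, 0, 1], [4, 11, 8, 0, 0, 1], [1, 2, 4, 0, 0, 5], [1, 4, 2, 0, 0, 5]]),
   ([1, 2, 2, 4, 7, 7], [[4, 0, 7, 0, 0, 1], [4, 7, 0, 0, 0, 1], [11, 3, 8, 0, 0, 2], [11, 8, 3, 0, 0, 2], [7, 3, 10, 0, 0, 4], [7, 10, 3, 0, 0, 4]]),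
   ([1, 2, 2, 5, 5, 8], [[3, 2, 6, 0, 0, 1], [3, 6, 2, 0, 0, 1], [4, 8, 11, 0, 0, 1], [4, 11, 8, 0, 0, 1], [1, 2, 4, 0, 0, 5], [1, 4, 2, 0, 0, 5]]),
   ([1, 2, 2, 5, 6, 7], [[4, 0, 7, 0, 0, 1], [4, 7, 0, 0, 0, 1], [11, 3, 8, 0, 0, 2], [11, 8, 3, 0, 0, 2], [7, 3, 10, 0, 0, 4], [7, 10, 3, 0, 0, 4]]),
   ([1, 2, 2, 6, 6, 6], [[7, 1, 3, 0, 0, 1], [7, 3, 1, 0, 0, 1], [9, 2, 11, 0, 0, 2], [9, 11, 2, 0, 0, 2], [3, 1, 10, 0, 0, 10], [3, 10, 1, 0, 0, 10]]),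
   ([1, 2, 2, 9, 10, 10], [[4, 9, 10, 0, 0, 1], [4, 10, 9, 0, 0, 1], [5, 2, 3, 0, 0, 2], [5, 3, 2, 0, 0, 2], [7, 9, 10, 0, 0, 10], [7, 10, 9, 0, 0, 10]])]

/-- Solutions for the prime 11, part 2. -/
def sols11p2 : List (List Nat × List (List Nat)) :=
  [([1, 2, 3, 3, 4, 10], [[5, 0, 6, 0, 0, 1], [10, 11, 1, 0, 0, 2], [8, 11, 1, 0, 0, 4], [4, 1, 11, 0, 0, 8], [2, 1, 11, 0, 0, 10], [7, 0, 6, 0, 0, 11]]),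
   ([1, 2, 3, 3, 5, 9], [[2, 9, 0, 0, 0, 1], [5, 3, 2, 0, 0, 2], [9, 9, 4, 0, 0, 2], [2, 7, 0, 0, 0, 3], [7, 4, 10, 0, 0, 3], [9, 8, 4, 0, 0, 3]]),
   ([1, 2, 3, 3, 6, 8], [[2, 7, 1, 0, 0, 2], [2, 9, 10, 0, 0, 3], [7, 5, 9, 0, 0, 3], [0, 6, 2, 0, 0, 4], [2, 9, 9, 0, 0, 4], [10, 5, 4, 0, 0, 5]]),
   ([1, 2, 3, 3, 7, 7], [[4, 7, 0, 0, 0, 1], [5, 10, 8, 0, 0, 1], [11, 6, 5, 0, 0, 2], [7, 4, 8, 0, 0, 5], [3, 4, 11, 0, 0, 6], [9, 8, 1, 0, 0, 6]]),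
   ([1, 2, 3, 4, 4, 9], [[2, 9, 0, 0, 0, 1], [5, 3, 2, 0, 0, 2], [9, 9, 4, 0, 0, 2], [2, 7, 0, 0, 0, 3], [7, 4, 10, 0, 0, 3], [9, 8, 4, 0, 0, 3]]),
   ([1, 2, 3, 4, 5, 8], [[2, 7, 1, 0, 0, 2], [2, 9, 10, 0, 0, 3], [7, 5, 9, 0, 0, 3], [0, 6, 2, 0, 0, 4], [2, 9, 9, 0, 0, 4], [10, 5, 4, 0, 0, 5]]),
   ([1, 2, 3, 4, 6, 7], [[4, 7, 0, 0, 0, 1], [5, 10, 8, 0, 0, 1], [11, 6, 5, 0, 0, 2], [7, 4, 8, 0, 0, 5], [3, 4, 11, 0, 0, 6], [9, 8, 1, 0, 0, 6]]),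
   ([1, 2, 3, 5, 5, 7], [[4, 7, 0, 0, 0, 1], [5, 10, 8, 0, 0, 1], [11, 6, 5, 0, 0, 2], [7, 4, 8, 0, 0, 5], [3, 4, 11, 0, 0, 6], [9, 8, 1, 0, 0, 6]]),
   ([1, 2, 3, 5, 6, 6], [[10, 2, 10, 0, 1, 1], [0, 9, 11, 0, 1, 3], [1, 6, 1, 0, 1, 3], [7, 11, 2, 0, 1, 3], [10, 10, 0, 0, 1, 3], [4, 9, 6, 0, 1, 4]]),
   ([1, 2, 3, 8, 10, 10], [[5, 0, 6, 0, 0, 1], [10, 11, 1, 0, 0, 2], [8, 11, 1, 0, 0, 4], [4, 1, 11, 0, 0, 8], [2, 1, 11, 0, 0, 10], [7, 0, 6, 0, 0, 11]]),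
   ([1, 2, 3, 9, 9, 10], [[5, 0, 6, 0, 0, 1], [10, 11, 1, 0, 0, 2], [8, 11, 1, 0, 0, 4], [4, 1, 11, 0, 0, 8], [2, 1, 11, 0, 0, 10], [7, 0, 6, 0, 0, 11]]),
   ([1, 2, 4, 4, 4, 8], [[0, 6, 6, 0, 0, 0], [5, 3, 2, 0, 0, 2], [7, 0, 3, 0, 0, 2], [10, 7, 5, 0, 0, 2], [0, 10, 11, 0, 0, 3], [3, 7, 9, 0, 0, 5]]),
   ([1, 2, 4, 4, 5, 7], [[0, 6, 6, 0, 0, 0], [4, 7, 0, 0, 0, 1], [6, 1, 4, 0, 0, 1], [6, 11, 5, 0, 0, 2], [4, 7, 7, 0, 0, 6], [8, 5, 5, 0, 0, 6]]),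
   ([1, 2, 4, 4, 6, 6], [[0, 6, 6, 0, 0, 0], [3, 3, 4, 0, 0, 2], [3, 8, 10, 0, 0, 3], [0, 10, 10, 0, 0, 4], [1, 0, 7, 0, 0, 4], [5, 9, 6, 0, 0, 4]]),
   ([1, 2, 4, 5, 5, 6], [[0, 6, 6, 0, 0, 0], [3, 3, 4, 0, 0, 2], [3, 8, 10, 0, 0, 3], [0, 10, 10, 0, 0, 4], [1, 0, 7, 0, 0, 4], [5, 9, 6, 0, 0, 4]]),
   ([1, 2, 4, 7, 10, 10], [[0, 6, 6, 0, 0, 0], [2, 10, 11, 0, 0, 1], [7, 0, 4, 0, 0, 1], [8, 7, 8, 0, 0, 1], [7, 7, 8, 0, 0, 2], [5, 2, 1, 0, 0, 4]]),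
   ([1, 2, 4, 8, 9, 10], [[0, 6, 6, 0, 0, 0], [2, 10, 11, 0, 0, 1], [7, 0, 4, 0, 0, 1], [8, 7, 8, 0, 0, 1], [7, 7, 8, 0, 0, 2], [5, 2, 1, 0, 0, 4]]),
   ([1, 2, 4, 9, 9, 9], [[0, 6, 6, 0, 0, 0], [0, 3, 8, 0, 0, 1], [2, 9, 0, 0, 0, 1], [0, 5, 4, 0, 0, 3], [1, 9, 11, 0, 0, 3], [2, 7, 0, 0, 0, 3]]),
   ([1, 2, 5, 5, 5, 5], [[6, 0, 6, 0, 0, 0], [9, 7, 5, 0, 0, 3], [10, 4, 7, 0, 0, 3], [11, 3, 6, 0, 0, 4], [2, 8, 9, 0, 0, 5], [9, 7, 3, 0, 0, 5]]),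
   ([1, 2, 5, 6, 10, 10], [[6, 0, 6, 0, 0, 0], [1, 1, 8, 0, 0, 2], [8, 9, 5, 0, 0, 2], [10, 4, 6, 0, 0, 4], [11, 2, 7, 0, 0, 4], [4, 11, 4, 0, 0, 5]]),
   ([1, 2, 5, 7, 9, 10], [[6, 0, 6, 0, 0, 0], [1, 1, 8, 0, 0, 2], [8, 9, 5, 0, 0, 2], [10, 4, 6, 0, 0, 4], [11, 2, 7, 0, 0, 4], [4, 11, 4, 0, 0, 5]]),
   ([1, 2, 5, 8, 8, 10], [[6, 0, 6, 0, 0, 0], [1, 1, 8, 0, 0, 2], [8, 9, 5, 0, 0, 2], [10, 4, 6, 0, 0, 4], [11, 2, 7, 0, 0, 4], [4, 11, 4, 0, 0, 5]]),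
   ([1, 2, 5, 8, 9, 9], [[6, 0, 6, 0, 0, 0], [2, 9, 0, 0, 0, 1], [0, 4, 6, 0, 0, 2], [2, 7, 0, 0, 0, 3], [1, 10, 9, 0, 0, 4], [6, 1, 0, 0, 0, 5]]),
   ([1, 2, 6, 6, 9, 10], [[4, 6, 1, 0, 0, 1], [8, 9, 6, 0, 0, 1], [11, 8, 4, 0, 0, 1], [5, 6, 11, 0, 0, 2], [7, 9, 6, 0, 0, 2], [3, 0, 6, 0, 0, 3]]),
   ([1, 2, 6, 7, 8, 10], [[4, 6, 1, 0, 0, 1], [8, 9, 6, 0, 0, 1], [11, 8, 4, 0, 0, 1], [5, 6, 11, 0, 0, 2], [7, 9, 6, 0, 0, 2], [3, 0, 6, 0, 0, 3]]),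
   ([1, 2, 6, 7, 9, 9], [[2, 9, 0, 0, 0, 1], [0, 1, 9, 0, 0, 2], [0, 3, 6, 0, 0, 3], [2, 7, 0, 0, 0, 3], [0, 4, 3, 0, 0, 5], [6, 1, 0, 0, 0, 5]]),
   ([1, 2, 6, 8, 8, 9], [[2, 9, 0, 0, 0, 1], [0, 1, 9, 0, 0, 2], [0, 3, 6, 0, 0, 3], [2, 7, 0, 0, 0, 3], [0, 4, 3, 0, 0, 5], [6, 1, 0, 0, 0, 5]]),
   ([1, 2, 7, 7, 7, 10], [[4, 7, 1, 0, 0, 0], [8, 5, 11, 0, 0, 0], [3, 0, 7, 0, 0, 2], [6, 5, 11, 0, 0, 2], [1, 2, 6, 0, 0, 3], [4, 0, 5, 0, 0, 3]]),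
   ([1, 2, 7, 7, 8, 9], [[4, 7, 1, 0, 0, 0], [8, 5, 11, 0, 0, 0], [2, 9, 0, 0, 0, 1], [4, 6, 1, 0, 0, 1], [11, 2, 10, 0, 0, 1], [2, 7, 0, 0, 0, 3]]),
   ([1, 2, 7, 8, 8, 8], [[4, 7, 1, 0, 0, 0], [8, 5, 11, 0, 0, 0], [5, 11, 7, 0, 0, 1], [10, 7, 6, 0, 0, 1], [4, 8, 10, 0, 0, 2], [5, 10, 5, 0, 0, 4]]),
   ([1, 3, 3, 3, 3, 10], [[0, 6, 6, 0, 0, 0], [5, 2, 5, 0, 0, 0], [5, 5, 2, 0, 0, 0], [7, 7, 10, 0, 0, 0], [7, 10, 7, 0, 0, 0], [0, 2, 9, 0, 0, 1]]),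
   ([1, 3, 3, 3, 4, 9], [[0, 6, 6, 0, 0, 0], [5, 2, 5, 0, 0, 0], [5, 5, 2, 0, 0, 0], [7, 7, 10, 0, 0, 0], [7, 10, 7, 0, 0, 0], [4, 1, 5, 0, 0, 2]]),
   ([1, 3, 3, 3, 5, 8], [[0, 6, 6, 0, 0, 0], [5, 2, 5, 0, 0, 0], [5, 5, 2, 0, 0, 0], [7, 7, 10, 0, 0, 0], [7, 10, 7, 0, 0, 0], [7, 6, 10, 0, 0, 1]]),
   ([1, 3, 3, 3, 6, 7], [[0, 6, 6, 0, 0, 0], [5, 2, 5, 0, 0, 0], [5, 5, 2, 0, 0, 0], [7, 7, 10, 0, 0, 0], [7, 10, 7, 0, 0, 0], [10, 4, 5, 0, 0, 5]]),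
   ([1, 3, 3, 4, 4, 8], [[0, 6, 6, 0, 0, 0], [5, 2, 5, 0, 0, 0], [5, 5, 2, 0, 0, 0], [7, 7, 10, 0, 0, 0], [7, 10, 7, 0, 0, 0], [7, 6, 10, 0, 0, 1]]),
   ([1, 3, 3, 4, 5, 7], [[0, 6, 6, 0, 0, 0], [5, 2, 5, 0, 0, 0], [5, 5, 2, 0, 0, 0], [7, 7, 10, 0, 0, 0], [7, 10, 7, 0, 0, 0], [10, 4, 5, 0, 0, 5]]),
   ([1, 3, 3, 4, 6, 6], [[0, 6, 6, 0, 0, 0], [5, 2, 5, 0, 0, 0], [5, 5, 2, 0, 0, 0], [7, 7, 10, 0, 0, 0], [7, 10, 7, 0, 0, 0], [0, 10, 10, 0, 0, 4]]),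
   ([1, 3, 3, 5, 5, 6], [[0, 6, 6, 0, 0, 0], [5, 2, 5, 0, 0, 0], [5, 5, 2, 0, 0, 0], [7, 7, 10, 0, 0, 0], [7, 10, 7, 0, 0, 0], [0, 10, 10, 0, 0, 4]]),
   ([1, 3, 3, 7, 10, 10], [[0, 6, 6, 0, 0, 0], [5, 2, 5, 0, 0, 0], [5, 5, 2, 0, 0, 0], [7, 7, 10, 0, 0, 0], [7, 10, 7, 0, 0, 0], [0, 2, 9, 0, 0, 1]]),
   ([1, 3, 3, 8, 9, 10], [[0, 6, 6, 0, 0, 0], [5, 2, 5, 0, 0, 0], [5, 5, 2, 0, 0, 0], [7, 7, 10, 0, 0, 0], [7, 10, 7, 0, 0, 0], [0, 2, 9, 0, 0, 1]])]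

/-- Solutions for the prime 11, part 3. -/
def sols11p3 : List (List Nat × List (List Nat)) :=
  [([1, 3, 3, 9, 9, 9], [[0, 6, 6, 0, 0, 0], [5, 2, 5, 0, 0, 0], [5, 5, 2, 0, 0, 0], [7, 7, 10, 0, 0, 0], [7, 10, 7, 0, 0, 0], [4, 1, 5, 0, 0, 2]]),
   ([1, 3, 4, 4, 4, 7], [[3, 8, 11, 0, 0, 2], [7, 6, 9, 0, 0, 2], [7, 6, 8, 0, 0, 3], [5, 5, 10, 0, 0, 4], [3, 8, 8, 0, 0, 5], [9, 4, 4, 0, 0, 7]]),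
   ([1, 3, 4, 4, 5, 6], [[6, 1, 4, 0, 0, 1], [4, 10, 8, 0, 0, 2], [1, 0, 7, 0, 0, 4], [5, 7, 7, 0, 0, 5], [10, 4, 5, 0, 0, 5], [5, 11, 2, 0, 0, 6]]),
   ([1, 3, 4, 5, 5, 5], [[1, 2, 8, 0, 0, 1], [3, 8, 0, 0, 0, 1], [8, 9, 5, 0, 0, 2], [1, 11, 9, 0, 0, 3], [8, 6, 7, 0, 0, 3], [8, 1, 10, 0, 0, 5]]),
   ([1, 3, 4, 6, 10, 10], [[5, 6, 0, 0, 0, 1], [7, 0, 4, 0, 0, 1], [1, 7, 1, 0, 0, 3], [3, 5, 11, 0, 0, 5], [9, 7, 1, 0, 0, 7], [11, 5, 11, 0, 0, 9]]),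
   ([1, 3, 4, 7, 9, 10], [[5, 6, 0, 0, 0, 1], [7, 0, 4, 0, 0, 1], [1, 7, 1, 0, 0, 3], [3, 5, 11, 0, 0, 5], [9, 7, 1, 0, 0, 7], [11, 5, 11, 0, 0, 9]]),
   ([1, 3, 4, 8, 8, 10], [[5, 6, 0, 0, 0, 1], [7, 0, 4, 0, 0, 1], [1, 7, 1, 0, 0, 3], [3, 5, 11, 0, 0, 5], [9, 7, 1, 0, 0, 7], [11, 5, 11, 0, 0, 9]]),
   ([1, 3, 4, 8, 9, 9], [[8, 10, 5, 0, 0, 1], [9, 8, 6, 0, 0, 1], [1, 4, 5, 0, 0, 2], [3, 10, 8, 0, 0, 3], [8, 11, 2, 0, 0, 3], [11, 7, 3, 0, 0, 3]]),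
   ([1, 3, 5, 5, 10, 10], [[3, 8, 1, 0, 0, 0], [6, 0, 6, 0, 0, 0], [9, 4, 11, 0, 0, 0], [5, 6, 0, 0, 0, 1], [1, 7, 2, 0, 0, 2], [2, 3, 5, 0, 0, 2]]),
   ([1, 3, 5, 6, 9, 10], [[3, 8, 1, 0, 0, 0], [6, 0, 6, 0, 0, 0], [9, 4, 11, 0, 0, 0], [5, 6, 0, 0, 0, 1], [1, 7, 2, 0, 0, 2], [2, 3, 5, 0, 0, 2]]),
   ([1, 3, 5, 7, 8, 10], [[3, 8, 1, 0, 0, 0], [6, 0, 6, 0, 0, 0], [9, 4, 11, 0, 0, 0], [5, 6, 0, 0, 0, 1], [1, 7, 2, 0, 0, 2], [2, 3, 5, 0, 0, 2]]),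
   ([1, 3, 5, 7, 9, 9], [[3, 8, 1, 0, 0, 0], [6, 0, 6, 0, 0, 0], [9, 4, 11, 0, 0, 0], [0, 4, 7, 0, 0, 1], [5, 7, 10, 0, 0, 2], [9, 10, 3, 0, 0, 2]]),
   ([1, 3, 5, 8, 8, 9], [[3, 8, 1, 0, 0, 0], [6, 0, 6, 0, 0, 0], [9, 4, 11, 0, 0, 0], [0, 4, 7, 0, 0, 1], [5, 7, 10, 0, 0, 2], [9, 10, 3, 0, 0, 2]]),
   ([1, 3, 6, 6, 8, 10], [[2, 3, 6, 0, 0, 1], [5, 6, 0, 0, 0, 1], [3, 0, 6, 0, 0, 3], [11, 6, 4, 0, 0, 3], [5, 9, 6, 0, 0, 4], [9, 6, 4, 0, 0, 5]]),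
   ([1, 3, 6, 6, 9, 9], [[10, 7, 6, 0, 0, 1], [1, 7, 2, 0, 0, 2], [8, 8, 4, 0, 0, 4], [0, 2, 5, 0, 0, 5], [11, 7, 1, 0, 0, 5], [5, 8, 5, 0, 0, 6]]),
   ([1, 3, 6, 7, 7, 10], [[2, 3, 6, 0, 0, 1], [5, 6, 0, 0, 0, 1], [3, 0, 6, 0, 0, 3], [11, 6, 4, 0, 0, 3], [5, 9, 6, 0, 0, 4], [9, 6, 4, 0, 0, 5]]),
   ([1, 3, 6, 7, 8, 9], [[10, 7, 6, 0, 0, 1], [1, 7, 2, 0, 0, 2], [8, 8, 4, 0, 0, 4], [0, 2, 5, 0, 0, 5], [11, 7, 1, 0, 0, 5], [5, 8, 5, 0, 0, 6]]),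
   ([1, 3, 6, 8, 8, 8], [[3, 3, 5, 0, 0, 1], [11, 4, 8, 0, 0, 1], [1, 5, 4, 0, 0, 2], [0, 3, 6, 0, 0, 3], [9, 5, 7, 0, 0, 3], [0, 11, 9, 0, 0, 4]]),
   ([1, 3, 7, 7, 7, 9], [[4, 9, 10, 0, 0, 1], [11, 3, 9, 0, 0, 1], [0, 11, 11, 0, 0, 2], [10, 5, 7, 0, 0, 2], [3, 2, 3, 0, 0, 4], [1, 11, 7, 0, 0, 5]]),
   ([1, 3, 7, 7, 8, 8], [[1, 8, 2, 0, 0, 1], [1, 7, 2, 0, 0, 2], [8, 10, 4, 0, 0, 2], [0, 1, 7, 0, 0, 4], [8, 8, 4, 0, 0, 4], [0, 2, 5, 0, 0, 5]]),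
   ([1, 4, 4, 4, 4, 6], [[0, 4, 8, 0, 0, 0], [0, 8, 4, 0, 0, 0], [11, 4, 7, 0, 0, 2], [11, 7, 4, 0, 0, 2], [2, 1, 6, 0, 0, 3], [2, 6, 1, 0, 0, 3]]),
   ([1, 4, 4, 4, 5, 5], [[0, 4, 8, 0, 0, 0], [0, 8, 4, 0, 0, 0], [6, 1, 4, 0, 0, 1], [6, 4, 1, 0, 0, 1], [4, 1, 5, 0, 0, 2], [4, 5, 1, 0, 0, 2]]),
   ([1, 4, 4, 5, 10, 10], [[0, 4, 8, 0, 0, 0], [0, 8, 4, 0, 0, 0], [7, 0, 4, 0, 0, 1], [7, 4, 0, 0, 0, 1], [6, 4, 8, 0, 0, 6], [6, 8, 4, 0, 0, 6]]),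
   ([1, 4, 4, 6, 9, 10], [[0, 4, 8, 0, 0, 0], [0, 8, 4, 0, 0, 0], [7, 0, 4, 0, 0, 1], [7, 4, 0, 0, 0, 1], [6, 4, 8, 0, 0, 6], [6, 8, 4, 0, 0, 6]]),
   ([1, 4, 4, 7, 8, 10], [[0, 4, 8, 0, 0, 0], [0, 8, 4, 0, 0, 0], [7, 0, 4, 0, 0, 1], [7, 4, 0, 0, 0, 1], [6, 4, 8, 0, 0, 6], [6, 8, 4, 0, 0, 6]]),
   ([1, 4, 4, 7, 9, 9], [[0, 4, 8, 0, 0, 0], [0, 8, 4, 0, 0, 0], [9, 3, 11, 0, 0, 1], [9, 11, 3, 0, 0, 1], [7, 5, 8, 0, 0, 4], [7, 8, 5, 0, 0, 4]]),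
   ([1, 4, 4, 8, 8, 9], [[0, 4, 8, 0, 0, 0], [0, 8, 4, 0, 0, 0], [9, 3, 11, 0, 0, 1], [9, 11, 3, 0, 0, 1], [7, 5, 8, 0, 0, 4], [7, 8, 5, 0, 0, 4]]),
   ([1, 4, 5, 5, 9, 10], [[6, 0, 6, 0, 0, 0], [7, 4, 0, 0, 0, 1], [8, 2, 1, 0, 0, 1], [10, 7, 6, 0, 0, 1], [7, 2, 1, 0, 0, 2], [7, 7, 6, 0, 0, 4]]),
   ([1, 4, 5, 6, 8, 10], [[6, 0, 6, 0, 0, 0], [7, 4, 0, 0, 0, 1], [8, 2, 1, 0, 0, 1], [10, 7, 6, 0, 0, 1], [7, 2, 1, 0, 0, 2], [7, 7, 6, 0, 0, 4]]),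
   ([1, 4, 5, 6, 9, 9], [[6, 0, 6, 0, 0, 0], [5, 10, 8, 0, 0, 1], [0, 10, 11, 0, 0, 3], [7, 5, 9, 0, 0, 3], [9, 10, 1, 0, 0, 4], [4, 5, 10, 0, 0, 5]]),
   ([1, 4, 5, 7, 7, 10], [[6, 0, 6, 0, 0, 0], [7, 4, 0, 0, 0, 1], [8, 2, 1, 0, 0, 1], [10, 7, 6, 0, 0, 1], [7, 2, 1, 0, 0, 2], [7, 7, 6, 0, 0, 4]]),
   ([1, 4, 5, 7, 8, 9], [[6, 0, 6, 0, 0, 0], [5, 10, 8, 0, 0, 1], [0, 10, 11, 0, 0, 3], [7, 5, 9, 0, 0, 3], [9, 10, 1, 0, 0, 4], [4, 5, 10, 0, 0, 5]]),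
   ([1, 4, 5, 8, 8, 8], [[6, 0, 6, 0, 0, 0], [2, 2, 7, 0, 0, 1], [7, 3, 0, 0, 0, 2], [7, 10, 3, 0, 0, 4], [10, 4, 6, 0, 0, 4], [3, 11, 5, 0, 0, 5]]),
   ([1, 4, 6, 6, 7, 10], [[1, 7, 4, 0, 0, 0], [11, 5, 8, 0, 0, 0], [7, 4, 0, 0, 0, 1], [8, 10, 4, 0, 0, 2], [3, 0, 6, 0, 0, 3], [10, 11, 11, 0, 0, 4]]),
   ([1, 4, 6, 6, 8, 9], [[1, 7, 4, 0, 0, 0], [11, 5, 8, 0, 0, 0], [5, 7, 11, 0, 0, 1], [8, 2, 1, 0, 0, 1], [0, 11, 11, 0, 0, 2], [2, 8, 10, 0, 0, 4]]),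
   ([1, 4, 6, 7, 7, 9], [[1, 7, 4, 0, 0, 0], [11, 5, 8, 0, 0, 0], [5, 7, 11, 0, 0, 1], [8, 2, 1, 0, 0, 1], [0, 11, 11, 0, 0, 2], [2, 8, 10, 0, 0, 4]]),
   ([1, 4, 6, 7, 8, 8], [[1, 7, 4, 0, 0, 0], [11, 5, 8, 0, 0, 0], [6, 10, 7, 0, 0, 1], [7, 3, 0, 0, 0, 2], [10, 11, 1, 0, 0, 2], [2, 11, 7, 0, 0, 4]]),
   ([1, 4, 7, 7, 7, 8], [[8, 2, 1, 0, 0, 1], [8, 7, 8, 0, 0, 1], [7, 3, 0, 0, 0, 2], [7, 6, 9, 0, 0, 2], [0, 2, 4, 0, 0, 6], [0, 10, 8, 0, 0, 6]]),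
   ([1, 4, 10, 10, 10, 10], [[5, 8, 11, 0, 0, 0], [7, 4, 1, 0, 0, 0], [6, 4, 1, 0, 0, 1], [7, 4, 0, 0, 0, 1], [5, 8, 0, 0, 0, 11], [6, 8, 11, 0, 0, 11]]),
   ([1, 5, 5, 5, 8, 10], [[6, 0, 6, 0, 0, 0], [6, 6, 0, 0, 0, 0], [2, 3, 4, 0, 0, 3], [2, 4, 3, 0, 0, 3], [3, 8, 9, 0, 0, 4], [3, 9, 8, 0, 0, 4]])]

/-- Solutions for the prime 11, part 4. -/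
def sols11p4 : List (List Nat × List (List Nat)) :=
  [([1, 5, 5, 5, 9, 9], [[6, 0, 6, 0, 0, 0], [6, 6, 0, 0, 0, 0], [0, 11, 11, 0, 0, 2], [7, 1, 2, 0, 0, 2], [7, 2, 1, 0, 0, 2], [10, 1, 8, 0, 0, 5]]),
   ([1, 5, 5, 6, 7, 10], [[6, 0, 6, 0, 0, 0], [6, 6, 0, 0, 0, 0], [2, 3, 4, 0, 0, 3], [2, 4, 3, 0, 0, 3], [3, 8, 9, 0, 0, 4], [3, 9, 8, 0, 0, 4]]),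
   ([1, 5, 5, 6, 8, 9], [[6, 0, 6, 0, 0, 0], [6, 6, 0, 0, 0, 0], [0, 11, 11, 0, 0, 2], [7, 1, 2, 0, 0, 2], [7, 2, 1, 0, 0, 2], [10, 1, 8, 0, 0, 5]]),
   ([1, 5, 5, 7, 7, 9], [[6, 0, 6, 0, 0, 0], [6, 6, 0, 0, 0, 0], [0, 11, 11, 0, 0, 2], [7, 1, 2, 0, 0, 2], [7, 2, 1, 0, 0, 2], [10, 1, 8, 0, 0, 5]]),
   ([1, 5, 5, 7, 8, 8], [[6, 0, 6, 0, 0, 0], [6, 6, 0, 0, 0, 0], [9, 4, 9, 0, 0, 2], [9, 9, 4, 0, 0, 2], [4, 5, 10, 0, 0, 5], [4, 10, 5, 0, 0, 5]]),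
   ([1, 5, 6, 6, 6, 10], [[2, 2, 8, 0, 0, 0], [6, 6, 0, 0, 0, 0], [10, 10, 4, 0, 0, 0], [5, 2, 4, 0, 0, 1], [5, 10, 8, 0, 0, 1], [4, 3, 3, 0, 0, 2]]),
   ([1, 5, 6, 6, 7, 9], [[2, 2, 8, 0, 0, 0], [6, 6, 0, 0, 0, 0], [10, 10, 4, 0, 0, 0], [11, 1, 10, 0, 0, 2], [11, 4, 7, 0, 0, 2], [2, 4, 3, 0, 0, 3]]),
   ([1, 5, 6, 6, 8, 8], [[2, 2, 8, 0, 0, 0], [6, 6, 0, 0, 0, 0], [10, 10, 4, 0, 0, 0], [8, 10, 5, 0, 0, 1], [8, 11, 4, 0, 0, 1], [9, 4, 10, 0, 0, 1]]),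
   ([1, 5, 6, 7, 7, 8], [[2, 2, 8, 0, 0, 0], [6, 6, 0, 0, 0, 0], [10, 10, 4, 0, 0, 0], [8, 10, 5, 0, 0, 1], [8, 11, 4, 0, 0, 1], [9, 4, 10, 0, 0, 1]]),
   ([1, 5, 7, 7, 7, 7], [[1, 9, 2, 0, 0, 0], [6, 6, 0, 0, 0, 0], [11, 3, 10, 0, 0, 0], [7, 9, 7, 0, 0, 1], [1, 9, 0, 0, 0, 2], [7, 1, 2, 0, 0, 2]]),
   ([1, 5, 9, 10, 10, 10], [[6, 6, 0, 0, 0, 0], [3, 6, 2, 0, 0, 1], [9, 8, 6, 0, 0, 1], [5, 6, 10, 0, 0, 3], [7, 8, 6, 0, 0, 3], [9, 7, 5, 0, 0, 3]]),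
   ([1, 6, 6, 6, 6, 9], [[0, 3, 9, 0, 0, 0], [0, 9, 3, 0, 0, 0], [3, 4, 5, 0, 0, 0], [3, 5, 4, 0, 0, 0], [9, 7, 8, 0, 0, 0], [9, 8, 7, 0, 0, 0]]),
   ([1, 6, 6, 6, 7, 8], [[0, 3, 9, 0, 0, 0], [0, 9, 3, 0, 0, 0], [3, 4, 5, 0, 0, 0], [3, 5, 4, 0, 0, 0], [9, 7, 8, 0, 0, 0], [9, 8, 7, 0, 0, 0]]),
   ([1, 6, 6, 7, 7, 7], [[0, 3, 9, 0, 0, 0], [0, 9, 3, 0, 0, 0], [3, 4, 5, 0, 0, 0], [3, 5, 4, 0, 0, 0], [9, 7, 8, 0, 0, 0], [9, 8, 7, 0, 0, 0]]),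
   ([1, 6, 8, 10, 10, 10], [[11, 7, 5, 0, 0, 1], [1, 6, 3, 0, 0, 2], [9, 0, 1, 0, 0, 2], [3, 6, 0, 0, 0, 3], [8, 0, 1, 0, 0, 3], [10, 3, 8, 0, 0, 3]]),
   ([1, 6, 9, 9, 10, 10], [[3, 3, 5, 0, 0, 1], [11, 1, 10, 0, 0, 2], [3, 6, 0, 0, 0, 3], [5, 9, 7, 0, 0, 3], [11, 6, 3, 0, 0, 4], [1, 0, 6, 0, 0, 5]]),
   ([1, 7, 7, 10, 10, 10], [[0, 5, 7, 0, 0, 0], [0, 7, 5, 0, 0, 0], [3, 0, 7, 0, 0, 2], [3, 7, 0, 0, 0, 2], [11, 5, 6, 0, 0, 2], [11, 6, 5, 0, 0, 2]]),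
   ([1, 7, 8, 9, 10, 10], [[2, 4, 5, 0, 0, 1], [3, 7, 0, 0, 0, 2], [9, 0, 1, 0, 0, 2], [4, 5, 0, 0, 0, 3], [8, 0, 1, 0, 0, 3], [10, 7, 4, 0, 0, 3]]),
   ([1, 7, 9, 9, 9, 10], [[10, 9, 4, 0, 0, 1], [11, 11, 1, 0, 0, 1], [3, 7, 0, 0, 0, 2], [8, 6, 8, 0, 0, 2], [4, 5, 0, 0, 0, 3], [10, 1, 10, 0, 0, 3]]),
   ([1, 8, 8, 8, 10, 10], [[0, 1, 11, 0, 0, 0], [0, 11, 1, 0, 0, 0], [9, 0, 1, 0, 0, 2], [9, 1, 0, 0, 0, 2], [8, 0, 1, 0, 0, 3], [8, 1, 0, 0, 0, 3]]),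
   ([1, 8, 8, 9, 9, 10], [[0, 1, 11, 0, 0, 0], [0, 11, 1, 0, 0, 0], [9, 0, 1, 0, 0, 2], [9, 1, 0, 0, 0, 2], [8, 0, 1, 0, 0, 3], [8, 1, 0, 0, 0, 3]]),
   ([1, 8, 9, 9, 9, 9], [[0, 6, 6, 0, 0, 0], [1, 0, 10, 0, 0, 1], [11, 0, 11, 0, 0, 2], [4, 10, 7, 0, 0, 3], [2, 1, 5, 0, 0, 4], [6, 6, 8, 0, 0, 4]]),
   ([2, 2, 2, 2, 2, 2], [[6, 6, 9, 0, 0, 3], [6, 9, 6, 0, 0, 3], [9, 6, 6, 0, 0, 3], [4, 8, 8, 0, 0, 4], [8, 4, 8, 0, 0, 4], [8, 8, 4, 0, 0, 4]]),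
   ([2, 2, 2, 2, 5, 10], [[3, 3, 3, 0, 1, 2], [0, 7, 11, 0, 1, 5], [0, 11, 7, 0, 1, 5], [7, 0, 11, 0, 1, 5], [7, 11, 0, 0, 1, 5], [11, 0, 7, 0, 1, 5]]),
   ([2, 2, 2, 2, 6, 9], [[1, 2, 3, 0, 1, 5], [1, 3, 2, 0, 1, 5], [2, 1, 3, 0, 1, 5], [2, 3, 1, 0, 1, 5], [3, 1, 2, 0, 1, 5], [3, 2, 1, 0, 1, 5]]),
   ([2, 2, 2, 2, 7, 8], [[1, 6, 11, 0, 0, 6], [1, 11, 6, 0, 0, 6], [6, 1, 11, 0, 0, 6], [6, 11, 1, 0, 0, 6], [11, 1, 6, 0, 0, 6], [11, 6, 1, 0, 0, 6]]),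
   ([2, 2, 2, 3, 4, 10], [[4, 7, 11, 0, 1, 1], [4, 11, 7, 0, 1, 1], [7, 4, 11, 0, 1, 1], [7, 11, 4, 0, 1, 1], [11, 4, 7, 0, 1, 1], [11, 7, 4, 0, 1, 1]]),
   ([2, 2, 2, 3, 5, 9], [[4, 7, 11, 0, 1, 1], [4, 11, 7, 0, 1, 1], [7, 4, 11, 0, 1, 1], [7, 11, 4, 0, 1, 1], [11, 4, 7, 0, 1, 1], [11, 7, 4, 0, 1, 1]]),
   ([2, 2, 2, 3, 6, 8], [[1, 6, 11, 0, 0, 6], [1, 11, 6, 0, 0, 6], [6, 1, 11, 0, 0, 6], [6, 11, 1, 0, 0, 6], [11, 1, 6, 0, 0, 6], [11, 6, 1, 0, 0, 6]]),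
   ([2, 2, 2, 3, 7, 7], [[3, 5, 11, 0, 0, 5], [3, 11, 5, 0, 0, 5], [5, 3, 11, 0, 0, 5], [5, 11, 3, 0, 0, 5], [11, 3, 5, 0, 0, 5], [11, 5, 3, 0, 0, 5]]),
   ([2, 2, 2, 4, 4, 9], [[6, 8, 8, 0, 2, 0], [8, 6, 8, 0, 2, 0], [8, 8, 6, 0, 2, 0], [3, 7, 11, 0, 2, 1], [3, 11, 7, 0, 2, 1], [7, 3, 11, 0, 2, 1]]),
   ([2, 2, 2, 4, 5, 8], [[1, 6, 11, 0, 0, 6], [1, 11, 6, 0, 0, 6], [6, 1, 11, 0, 0, 6], [6, 11, 1, 0, 0, 6], [11, 1, 6, 0, 0, 6], [11, 6, 1, 0, 0, 6]]),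
   ([2, 2, 2, 4, 6, 7], [[3, 5, 11, 0, 0, 5], [3, 11, 5, 0, 0, 5], [5, 3, 11, 0, 0, 5], [5, 11, 3, 0, 0, 5], [11, 3, 5, 0, 0, 5], [11, 5, 3, 0, 0, 5]]),
   ([2, 2, 2, 5, 5, 7], [[3, 5, 11, 0, 0, 5], [3, 11, 5, 0, 0, 5], [5, 3, 11, 0, 0, 5], [5, 11, 3, 0, 0, 5], [11, 3, 5, 0, 0, 5], [11, 5, 3, 0, 0, 5]]),
   ([2, 2, 2, 5, 6, 6], [[2, 10, 10, 0, 1, 1], [10, 2, 10, 0, 1, 1], [10, 10, 2, 0, 1, 1], [1, 1, 6, 0, 1, 3], [1, 6, 1, 0, 1, 3], [6, 1, 1, 0, 1, 3]]),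
   ([2, 2, 2, 8, 10, 10], [[1, 9, 11, 0, 1, 2], [1, 11, 9, 0, 1, 2], [9, 1, 11, 0, 1, 2], [9, 11, 1, 0, 1, 2], [11, 1, 9, 0, 1, 2], [11, 9, 1, 0, 1, 2]]),
   ([2, 2, 2, 9, 9, 10], [[1, 1, 8, 0, 1, 1], [1, 8, 1, 0, 1, 1], [8, 1, 1, 0, 1, 1], [3, 4, 11, 0, 1, 5], [3, 11, 4, 0, 1, 5], [4, 3, 11, 0, 1, 5]]),
   ([2, 2, 3, 3, 3, 10], [[5, 5, 2, 0, 0, 0], [7, 7, 10, 0, 0, 0], [7, 8, 8, 0, 0, 1], [8, 7, 8, 0, 0, 1], [2, 5, 11, 0, 0, 6], [5, 2, 11, 0, 0, 6]]),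
   ([2, 2, 3, 3, 4, 9], [[5, 5, 2, 0, 0, 0], [7, 7, 10, 0, 0, 0], [6, 7, 10, 0, 0, 1], [7, 6, 10, 0, 0, 1], [5, 6, 2, 0, 0, 11], [6, 5, 2, 0, 0, 11]]),
   ([2, 2, 3, 3, 5, 8], [[5, 5, 2, 0, 0, 0], [7, 7, 10, 0, 0, 0], [0, 6, 2, 0, 0, 4], [6, 0, 2, 0, 0, 4], [7, 7, 6, 0, 0, 4], [0, 6, 10, 0, 0, 8]])]

/-- Solutions for the prime 11, part 5. -/
def sols11p5 : List (List Nat × List (List Nat)) :=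
  [([2, 2, 3, 3, 6, 7], [[5, 5, 2, 0, 0, 0], [7, 7, 10, 0, 0, 0], [10, 11, 2, 0, 0, 1], [11, 10, 2, 0, 0, 1], [2, 7, 1, 0, 0, 2], [7, 2, 1, 0, 0, 2]]),
   ([2, 2, 3, 4, 4, 8], [[5, 5, 2, 0, 0, 0], [7, 7, 10, 0, 0, 0], [0, 6, 2, 0, 0, 4], [6, 0, 2, 0, 0, 4], [7, 7, 6, 0, 0, 4], [0, 6, 10, 0, 0, 8]]),
   ([2, 2, 3, 4, 5, 7], [[5, 5, 2, 0, 0, 0], [7, 7, 10, 0, 0, 0], [10, 11, 2, 0, 0, 1], [11, 10, 2, 0, 0, 1], [2, 7, 1, 0, 0, 2], [7, 2, 1, 0, 0, 2]]),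
   ([2, 2, 3, 4, 6, 6], [[5, 5, 2, 0, 0, 0], [7, 7, 10, 0, 0, 0], [3, 11, 5, 0, 0, 5], [11, 3, 5, 0, 0, 5], [5, 7, 6, 0, 0, 6], [7, 5, 6, 0, 0, 6]]),
   ([2, 2, 3, 5, 5, 6], [[5, 5, 2, 0, 0, 0], [7, 7, 10, 0, 0, 0], [3, 11, 5, 0, 0, 5], [11, 3, 5, 0, 0, 5], [5, 7, 6, 0, 0, 6], [7, 5, 6, 0, 0, 6]]),
   ([2, 2, 3, 7, 10, 10], [[5, 5, 2, 0, 0, 0], [7, 7, 10, 0, 0, 0], [7, 8, 8, 0, 0, 1], [8, 7, 8, 0, 0, 1], [2, 5, 11, 0, 0, 6], [5, 2, 11, 0, 0, 6]]),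
   ([2, 2, 3, 8, 9, 10], [[5, 5, 2, 0, 0, 0], [7, 7, 10, 0, 0, 0], [7, 8, 8, 0, 0, 1], [8, 7, 8, 0, 0, 1], [2, 5, 11, 0, 0, 6], [5, 2, 11, 0, 0, 6]]),
   ([2, 2, 3, 9, 9, 9], [[5, 5, 2, 0, 0, 0], [7, 7, 10, 0, 0, 0], [6, 7, 10, 0, 0, 1], [7, 6, 10, 0, 0, 1], [5, 6, 2, 0, 0, 11], [6, 5, 2, 0, 0, 11]]),
   ([2, 2, 4, 4, 4, 7], [[0, 6, 6, 0, 0, 0], [6, 0, 6, 0, 0, 0], [9, 10, 2, 0, 0, 3], [10, 9, 2, 0, 0, 3], [2, 3, 3, 0, 0, 4], [3, 2, 3, 0, 0, 4]]),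
   ([2, 2, 4, 4, 5, 6], [[0, 6, 6, 0, 0, 0], [6, 0, 6, 0, 0, 0], [3, 11, 9, 0, 0, 1], [4, 5, 2, 0, 0, 1], [5, 4, 2, 0, 0, 1], [11, 3, 9, 0, 0, 1]]),
   ([2, 2, 4, 5, 5, 5], [[0, 6, 6, 0, 0, 0], [6, 0, 6, 0, 0, 0], [3, 8, 10, 0, 0, 3], [8, 3, 10, 0, 0, 3], [3, 11, 5, 0, 0, 5], [9, 10, 0, 0, 0, 5]]),
   ([2, 2, 4, 6, 10, 10], [[0, 6, 6, 0, 0, 0], [6, 0, 6, 0, 0, 0], [3, 10, 9, 0, 0, 2], [10, 3, 9, 0, 0, 2], [4, 11, 4, 0, 0, 5], [11, 4, 4, 0, 0, 5]]),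
   ([2, 2, 4, 7, 9, 10], [[0, 6, 6, 0, 0, 0], [6, 0, 6, 0, 0, 0], [3, 10, 9, 0, 0, 2], [10, 3, 9, 0, 0, 2], [4, 11, 4, 0, 0, 5], [11, 4, 4, 0, 0, 5]]),
   ([2, 2, 4, 8, 8, 10], [[0, 6, 6, 0, 0, 0], [6, 0, 6, 0, 0, 0], [3, 10, 9, 0, 0, 2], [10, 3, 9, 0, 0, 2], [4, 11, 4, 0, 0, 5], [11, 4, 4, 0, 0, 5]]),
   ([2, 2, 4, 8, 9, 9], [[0, 6, 6, 0, 0, 0], [6, 0, 6, 0, 0, 0], [0, 3, 8, 0, 0, 1], [3, 0, 8, 0, 0, 1], [0, 5, 4, 0, 0, 3], [5, 0, 4, 0, 0, 3]]),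
   ([2, 2, 5, 5, 10, 10], [[2, 3, 7, 0, 0, 0], [3, 2, 7, 0, 0, 0], [9, 10, 5, 0, 0, 0], [10, 9, 5, 0, 0, 0], [3, 4, 2, 0, 0, 3], [4, 3, 2, 0, 0, 3]]),
   ([2, 2, 5, 6, 9, 10], [[2, 3, 7, 0, 0, 0], [3, 2, 7, 0, 0, 0], [9, 10, 5, 0, 0, 0], [10, 9, 5, 0, 0, 0], [3, 4, 2, 0, 0, 3], [4, 3, 2, 0, 0, 3]]),
   ([2, 2, 5, 7, 8, 10], [[2, 3, 7, 0, 0, 0], [3, 2, 7, 0, 0, 0], [9, 10, 5, 0, 0, 0], [10, 9, 5, 0, 0, 0], [3, 4, 2, 0, 0, 3], [4, 3, 2, 0, 0, 3]]),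
   ([2, 2, 5, 7, 9, 9], [[2, 3, 7, 0, 0, 0], [3, 2, 7, 0, 0, 0], [9, 10, 5, 0, 0, 0], [10, 9, 5, 0, 0, 0], [0, 4, 6, 0, 0, 2], [4, 0, 6, 0, 0, 2]]),
   ([2, 2, 5, 8, 8, 9], [[2, 3, 7, 0, 0, 0], [3, 2, 7, 0, 0, 0], [9, 10, 5, 0, 0, 0], [10, 9, 5, 0, 0, 0], [0, 4, 6, 0, 0, 2], [4, 0, 6, 0, 0, 2]]),
   ([2, 2, 6, 6, 8, 10], [[1, 7, 3, 0, 0, 1], [7, 1, 3, 0, 0, 1], [1, 10, 11, 0, 0, 2], [10, 1, 11, 0, 0, 2], [3, 7, 9, 0, 0, 5], [7, 3, 9, 0, 0, 5]]),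
   ([2, 2, 6, 6, 9, 9], [[0, 1, 9, 0, 0, 2], [1, 0, 9, 0, 0, 2], [8, 10, 4, 0, 0, 2], [10, 8, 4, 0, 0, 2], [0, 3, 6, 0, 0, 3], [3, 0, 6, 0, 0, 3]]),
   ([2, 2, 6, 7, 7, 10], [[1, 7, 3, 0, 0, 1], [7, 1, 3, 0, 0, 1], [1, 10, 11, 0, 0, 2], [10, 1, 11, 0, 0, 2], [3, 7, 9, 0, 0, 5], [7, 3, 9, 0, 0, 5]]),
   ([2, 2, 6, 7, 8, 9], [[0, 1, 9, 0, 0, 2], [1, 0, 9, 0, 0, 2], [8, 10, 4, 0, 0, 2], [10, 8, 4, 0, 0, 2], [0, 3, 6, 0, 0, 3], [3, 0, 6, 0, 0, 3]]),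
   ([2, 2, 6, 8, 8, 8], [[3, 3, 5, 0, 0, 1], [5, 10, 5, 0, 0, 4], [8, 9, 3, 0, 0, 4], [9, 8, 3, 0, 0, 4], [10, 5, 5, 0, 0, 4], [4, 8, 6, 0, 0, 6]]),
   ([2, 2, 7, 7, 7, 9], [[0, 2, 6, 0, 0, 4], [2, 0, 6, 0, 0, 4], [2, 10, 6, 0, 0, 6], [10, 2, 6, 0, 0, 6], [0, 10, 6, 0, 0, 8], [10, 0, 6, 0, 0, 8]]),
   ([2, 2, 7, 7, 8, 8], [[3, 11, 7, 0, 0, 3], [11, 3, 7, 0, 0, 3], [8, 8, 4, 0, 0, 4], [1, 10, 8, 0, 0, 5], [10, 1, 8, 0, 0, 5], [3, 9, 6, 0, 0, 6]]),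
   ([2, 3, 3, 3, 3, 9], [[0, 6, 6, 0, 0, 0], [1, 2, 5, 0, 0, 4], [1, 5, 2, 0, 0, 4], [2, 7, 10, 0, 0, 5], [2, 10, 7, 0, 0, 5], [6, 6, 6, 0, 0, 6]]),
   ([2, 3, 3, 3, 4, 8], [[0, 6, 6, 0, 0, 0], [11, 1, 9, 0, 0, 3], [11, 9, 1, 0, 0, 3], [6, 0, 2, 0, 0, 4], [6, 2, 0, 0, 0, 4], [1, 3, 3, 0, 0, 5]]),
   ([2, 3, 3, 3, 5, 7], [[0, 6, 6, 0, 0, 0], [2, 3, 3, 0, 0, 4], [1, 8, 9, 0, 0, 6], [1, 9, 8, 0, 0, 6], [11, 3, 4, 0, 0, 6], [11, 4, 3, 0, 0, 6]]),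
   ([2, 3, 3, 3, 6, 6], [[0, 6, 6, 0, 0, 0], [7, 1, 2, 0, 0, 2], [7, 2, 1, 0, 0, 2], [11, 3, 8, 0, 0, 2], [11, 8, 3, 0, 0, 2], [5, 8, 8, 0, 0, 3]]),
   ([2, 3, 3, 4, 4, 7], [[0, 6, 6, 0, 0, 0], [2, 3, 3, 0, 0, 4], [1, 8, 9, 0, 0, 6], [1, 9, 8, 0, 0, 6], [11, 3, 4, 0, 0, 6], [11, 4, 3, 0, 0, 6]]),
   ([2, 3, 3, 4, 5, 6], [[0, 6, 6, 0, 0, 0], [7, 1, 2, 0, 0, 2], [7, 2, 1, 0, 0, 2], [11, 3, 8, 0, 0, 2], [11, 8, 3, 0, 0, 2], [5, 8, 8, 0, 0, 3]]),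
   ([2, 3, 3, 5, 5, 5], [[0, 6, 6, 0, 0, 0], [8, 5, 10, 0, 0, 1], [8, 10, 5, 0, 0, 1], [0, 3, 7, 0, 0, 2], [0, 7, 3, 0, 0, 2], [11, 0, 9, 0, 0, 4]]),
   ([2, 3, 3, 6, 10, 10], [[0, 6, 6, 0, 0, 0], [0, 2, 9, 0, 0, 1], [0, 9, 2, 0, 0, 1], [1, 1, 7, 0, 0, 3], [1, 7, 1, 0, 0, 3], [7, 6, 8, 0, 0, 3]]),
   ([2, 3, 3, 7, 9, 10], [[0, 6, 6, 0, 0, 0], [0, 2, 9, 0, 0, 1], [0, 9, 2, 0, 0, 1], [1, 1, 7, 0, 0, 3], [1, 7, 1, 0, 0, 3], [7, 6, 8, 0, 0, 3]]),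
   ([2, 3, 3, 8, 8, 10], [[0, 6, 6, 0, 0, 0], [0, 2, 9, 0, 0, 1], [0, 9, 2, 0, 0, 1], [1, 1, 7, 0, 0, 3], [1, 7, 1, 0, 0, 3], [7, 6, 8, 0, 0, 3]]),
   ([2, 3, 3, 8, 9, 9], [[0, 6, 6, 0, 0, 0], [1, 2, 5, 0, 0, 4], [1, 5, 2, 0, 0, 4], [2, 7, 10, 0, 0, 5], [2, 10, 7, 0, 0, 5], [6, 6, 6, 0, 0, 6]]),
   ([2, 3, 4, 4, 4, 6], [[6, 0, 6, 0, 0, 0], [9, 5, 8, 0, 0, 2], [10, 0, 10, 0, 0, 4], [3, 9, 7, 0, 0, 5], [9, 3, 5, 0, 0, 7], [2, 0, 2, 0, 0, 8]]),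
   ([2, 3, 4, 4, 5, 5], [[6, 0, 6, 0, 0, 0], [3, 10, 10, 0, 0, 1], [4, 8, 10, 0, 0, 2], [7, 1, 2, 0, 0, 2], [6, 5, 10, 0, 0, 3], [9, 4, 8, 0, 0, 3]])]

/-- Solutions for the prime 11, part 6. -/
def sols11p6 : List (List Nat × List (List Nat)) :=
  [([2, 3, 4, 5, 10, 10], [[6, 0, 6, 0, 0, 0], [5, 7, 9, 0, 0, 3], [8, 2, 11, 0, 0, 3], [10, 4, 6, 0, 0, 4], [2, 8, 6, 0, 0, 8], [4, 10, 1, 0, 0, 9]]),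
   ([2, 3, 4, 6, 9, 10], [[6, 0, 6, 0, 0, 0], [5, 7, 9, 0, 0, 3], [8, 2, 11, 0, 0, 3], [10, 4, 6, 0, 0, 4], [2, 8, 6, 0, 0, 8], [4, 10, 1, 0, 0, 9]]),
   ([2, 3, 4, 7, 8, 10], [[6, 0, 6, 0, 0, 0], [5, 7, 9, 0, 0, 3], [8, 2, 11, 0, 0, 3], [10, 4, 6, 0, 0, 4], [2, 8, 6, 0, 0, 8], [4, 10, 1, 0, 0, 9]]),
   ([2, 3, 4, 7, 9, 9], [[6, 0, 6, 0, 0, 0], [3, 0, 8, 0, 0, 1], [2, 1, 6, 0, 0, 3], [5, 0, 4, 0, 0, 3], [0, 7, 1, 0, 0, 4], [3, 11, 6, 0, 0, 4]]),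
   ([2, 3, 4, 8, 8, 9], [[6, 0, 6, 0, 0, 0], [3, 0, 8, 0, 0, 1], [2, 1, 6, 0, 0, 3], [5, 0, 4, 0, 0, 3], [0, 7, 1, 0, 0, 4], [3, 11, 6, 0, 0, 4]]),
   ([2, 3, 5, 5, 9, 10], [[1, 3, 8, 0, 0, 0], [11, 9, 4, 0, 0, 0], [4, 11, 8, 0, 0, 1], [7, 7, 6, 0, 0, 4], [0, 2, 5, 0, 0, 5], [4, 1, 2, 0, 0, 5]]),
   ([2, 3, 5, 6, 8, 10], [[1, 3, 8, 0, 0, 0], [11, 9, 4, 0, 0, 0], [4, 11, 8, 0, 0, 1], [7, 7, 6, 0, 0, 4], [0, 2, 5, 0, 0, 5], [4, 1, 2, 0, 0, 5]]),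
   ([2, 3, 5, 6, 9, 9], [[1, 3, 8, 0, 0, 0], [11, 9, 4, 0, 0, 0], [0, 4, 7, 0, 0, 1], [4, 2, 5, 0, 0, 1], [2, 3, 5, 0, 0, 2], [3, 9, 10, 0, 0, 2]]),
   ([2, 3, 5, 7, 7, 10], [[1, 3, 8, 0, 0, 0], [11, 9, 4, 0, 0, 0], [4, 11, 8, 0, 0, 1], [7, 7, 6, 0, 0, 4], [0, 2, 5, 0, 0, 5], [4, 1, 2, 0, 0, 5]]),
   ([2, 3, 5, 7, 8, 9], [[1, 3, 8, 0, 0, 0], [11, 9, 4, 0, 0, 0], [0, 4, 7, 0, 0, 1], [4, 2, 5, 0, 0, 1], [2, 3, 5, 0, 0, 2], [3, 9, 10, 0, 0, 2]]),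
   ([2, 3, 5, 8, 8, 8], [[1, 3, 8, 0, 0, 0], [11, 9, 4, 0, 0, 0], [2, 2, 7, 0, 0, 1], [11, 6, 4, 0, 0, 3], [6, 2, 0, 0, 0, 4], [10, 5, 5, 0, 0, 4]]),
   ([2, 3, 6, 6, 7, 10], [[5, 4, 2, 0, 0, 1], [11, 7, 5, 0, 0, 1], [3, 5, 1, 0, 0, 3], [10, 3, 8, 0, 0, 3], [9, 10, 1, 0, 0, 4], [11, 6, 2, 0, 0, 5]]),
   ([2, 3, 6, 6, 8, 9], [[7, 1, 3, 0, 0, 1], [1, 0, 9, 0, 0, 2], [2, 10, 9, 0, 0, 3], [3, 0, 6, 0, 0, 3], [3, 2, 3, 0, 0, 4], [0, 2, 5, 0, 0, 5]]),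
   ([2, 3, 6, 7, 7, 9], [[7, 1, 3, 0, 0, 1], [1, 0, 9, 0, 0, 2], [2, 10, 9, 0, 0, 3], [3, 0, 6, 0, 0, 3], [3, 2, 3, 0, 0, 4], [0, 2, 5, 0, 0, 5]]),
   ([2, 3, 6, 7, 8, 8], [[3, 1, 6, 0, 0, 2], [0, 3, 6, 0, 0, 3], [2, 11, 8, 0, 0, 3], [0, 11, 9, 0, 0, 4], [6, 2, 0, 0, 0, 4], [0, 10, 9, 0, 0, 5]]),
   ([2, 3, 7, 7, 7, 8], [[5, 7, 11, 0, 0, 1], [0, 1, 7, 0, 0, 4], [6, 2, 0, 0, 0, 4], [0, 2, 5, 0, 0, 5], [0, 10, 7, 0, 0, 7], [0, 11, 5, 0, 0, 8]]),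
   ([2, 3, 10, 10, 10, 10], [[4, 3, 4, 0, 0, 1], [7, 1, 2, 0, 0, 2], [6, 11, 4, 0, 0, 3], [4, 3, 1, 0, 0, 4], [6, 11, 3, 0, 0, 4], [6, 1, 9, 0, 0, 8]]),
   ([2, 4, 4, 4, 4, 5], [[0, 4, 8, 0, 0, 0], [0, 8, 4, 0, 0, 0], [6, 0, 6, 0, 0, 0], [6, 6, 0, 0, 0, 0], [9, 6, 7, 0, 0, 2], [9, 7, 6, 0, 0, 2]]),
   ([2, 4, 4, 4, 10, 10], [[0, 4, 8, 0, 0, 0], [0, 8, 4, 0, 0, 0], [6, 0, 6, 0, 0, 0], [6, 6, 0, 0, 0, 0], [8, 5, 10, 0, 0, 1], [8, 10, 5, 0, 0, 1]]),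
   ([2, 4, 4, 5, 9, 10], [[0, 4, 8, 0, 0, 0], [0, 8, 4, 0, 0, 0], [6, 0, 6, 0, 0, 0], [6, 6, 0, 0, 0, 0], [8, 5, 10, 0, 0, 1], [8, 10, 5, 0, 0, 1]]),
   ([2, 4, 4, 6, 8, 10], [[0, 4, 8, 0, 0, 0], [0, 8, 4, 0, 0, 0], [6, 0, 6, 0, 0, 0], [6, 6, 0, 0, 0, 0], [8, 5, 10, 0, 0, 1], [8, 10, 5, 0, 0, 1]]),
   ([2, 4, 4, 6, 9, 9], [[0, 4, 8, 0, 0, 0], [0, 8, 4, 0, 0, 0], [6, 0, 6, 0, 0, 0], [6, 6, 0, 0, 0, 0], [3, 0, 8, 0, 0, 1], [3, 8, 0, 0, 0, 1]]),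
   ([2, 4, 4, 7, 7, 10], [[0, 4, 8, 0, 0, 0], [0, 8, 4, 0, 0, 0], [6, 0, 6, 0, 0, 0], [6, 6, 0, 0, 0, 0], [8, 5, 10, 0, 0, 1], [8, 10, 5, 0, 0, 1]]),
   ([2, 4, 4, 7, 8, 9], [[0, 4, 8, 0, 0, 0], [0, 8, 4, 0, 0, 0], [6, 0, 6, 0, 0, 0], [6, 6, 0, 0, 0, 0], [3, 0, 8, 0, 0, 1], [3, 8, 0, 0, 0, 1]]),
   ([2, 4, 4, 8, 8, 8], [[0, 4, 8, 0, 0, 0], [0, 8, 4, 0, 0, 0], [6, 0, 6, 0, 0, 0], [6, 6, 0, 0, 0, 0], [10, 0, 11, 0, 0, 3], [10, 11, 0, 0, 0, 3]]),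
   ([2, 4, 5, 5, 8, 10], [[6, 6, 0, 0, 0, 0], [3, 11, 9, 0, 0, 1], [11, 8, 3, 0, 0, 2], [6, 10, 4, 0, 0, 4], [6, 2, 8, 0, 0, 8], [1, 4, 9, 0, 0, 10]]),
   ([2, 4, 5, 5, 9, 9], [[6, 6, 0, 0, 0, 0], [2, 5, 4, 0, 0, 1], [3, 8, 0, 0, 0, 1], [4, 0, 6, 0, 0, 2], [0, 10, 11, 0, 0, 3], [5, 4, 0, 0, 0, 3]]),
   ([2, 4, 5, 6, 7, 10], [[6, 6, 0, 0, 0, 0], [3, 11, 9, 0, 0, 1], [11, 8, 3, 0, 0, 2], [6, 10, 4, 0, 0, 4], [6, 2, 8, 0, 0, 8], [1, 4, 9, 0, 0, 10]]),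
   ([2, 4, 5, 6, 8, 9], [[6, 6, 0, 0, 0, 0], [2, 5, 4, 0, 0, 1], [3, 8, 0, 0, 0, 1], [4, 0, 6, 0, 0, 2], [0, 10, 11, 0, 0, 3], [5, 4, 0, 0, 0, 3]]),
   ([2, 4, 5, 7, 7, 9], [[6, 6, 0, 0, 0, 0], [2, 5, 4, 0, 0, 1], [3, 8, 0, 0, 0, 1], [4, 0, 6, 0, 0, 2], [0, 10, 11, 0, 0, 3], [5, 4, 0, 0, 0, 3]]),
   ([2, 4, 5, 7, 8, 8], [[6, 6, 0, 0, 0, 0], [11, 2, 10, 0, 0, 1], [9, 9, 4, 0, 0, 2], [4, 3, 2, 0, 0, 3], [10, 11, 0, 0, 0, 3], [10, 6, 4, 0, 0, 4]]),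
   ([2, 4, 6, 6, 6, 10], [[2, 2, 8, 0, 0, 0], [6, 6, 0, 0, 0, 0], [10, 10, 4, 0, 0, 0], [4, 9, 10, 0, 0, 1], [1, 11, 8, 0, 0, 4], [4, 2, 2, 0, 0, 4]]),
   ([2, 4, 6, 6, 7, 9], [[2, 2, 8, 0, 0, 0], [6, 6, 0, 0, 0, 0], [10, 10, 4, 0, 0, 0], [3, 8, 0, 0, 0, 1], [8, 9, 6, 0, 0, 1], [0, 11, 11, 0, 0, 2]]),
   ([2, 4, 6, 6, 8, 8], [[2, 2, 8, 0, 0, 0], [6, 6, 0, 0, 0, 0], [10, 10, 4, 0, 0, 0], [7, 1, 3, 0, 0, 1], [8, 7, 8, 0, 0, 1], [8, 2, 11, 0, 0, 3]]),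
   ([2, 4, 6, 7, 7, 8], [[2, 2, 8, 0, 0, 0], [6, 6, 0, 0, 0, 0], [10, 10, 4, 0, 0, 0], [7, 1, 3, 0, 0, 1], [8, 7, 8, 0, 0, 1], [8, 2, 11, 0, 0, 3]]),
   ([2, 4, 7, 7, 7, 7], [[6, 6, 0, 0, 0, 0], [0, 0, 7, 0, 0, 5], [0, 1, 6, 0, 0, 5], [0, 1, 5, 0, 0, 6], [0, 11, 7, 0, 0, 6], [0, 0, 5, 0, 0, 7]]),
   ([2, 4, 9, 10, 10, 10], [[3, 8, 1, 0, 0, 0], [5, 4, 3, 0, 0, 0], [6, 6, 0, 0, 0, 0], [7, 8, 9, 0, 0, 0], [9, 4, 11, 0, 0, 0], [2, 4, 5, 0, 0, 1]]),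
   ([2, 5, 5, 5, 7, 10], [[6, 1, 2, 0, 0, 3], [6, 2, 1, 0, 0, 3], [4, 2, 2, 0, 0, 4], [7, 5, 8, 0, 0, 4], [7, 8, 5, 0, 0, 4], [9, 3, 7, 0, 0, 5]]),
   ([2, 5, 5, 5, 8, 9], [[0, 11, 11, 0, 0, 2], [4, 0, 6, 0, 0, 2], [4, 6, 0, 0, 0, 2], [4, 1, 1, 0, 0, 6], [8, 11, 11, 0, 0, 6], [0, 1, 1, 0, 0, 10]]),
   ([2, 5, 5, 6, 6, 10], [[6, 1, 2, 0, 0, 3], [6, 2, 1, 0, 0, 3], [4, 2, 2, 0, 0, 4], [7, 5, 8, 0, 0, 4], [7, 8, 5, 0, 0, 4], [9, 3, 7, 0, 0, 5]])]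

/-- Solutions for the prime 11, part 7. -/
def sols11p7 : List (List Nat × List (List Nat)) :=
  [([2, 5, 5, 6, 7, 9], [[0, 11, 11, 0, 0, 2], [4, 0, 6, 0, 0, 2], [4, 6, 0, 0, 0, 2], [4, 1, 1, 0, 0, 6], [8, 11, 11, 0, 0, 6], [0, 1, 1, 0, 0, 10]]),
   ([2, 5, 5, 6, 8, 8], [[7, 7, 8, 0, 0, 2], [7, 8, 7, 0, 0, 2], [2, 8, 10, 0, 0, 4], [2, 10, 8, 0, 0, 4], [6, 2, 11, 0, 0, 5], [6, 11, 2, 0, 0, 5]]),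
   ([2, 5, 5, 7, 7, 8], [[7, 7, 8, 0, 0, 2], [7, 8, 7, 0, 0, 2], [2, 8, 10, 0, 0, 4], [2, 10, 8, 0, 0, 4], [6, 2, 11, 0, 0, 5], [6, 11, 2, 0, 0, 5]]),
   ([2, 5, 6, 6, 6, 9], [[6, 5, 1, 0, 0, 0], [6, 7, 11, 0, 0, 0], [5, 3, 3, 0, 0, 1], [5, 9, 9, 0, 0, 1], [9, 10, 4, 0, 0, 1], [1, 0, 9, 0, 0, 2]]),
   ([2, 5, 6, 6, 7, 8], [[6, 5, 1, 0, 0, 0], [6, 7, 11, 0, 0, 0], [4, 3, 4, 0, 0, 1], [4, 10, 9, 0, 0, 1], [10, 2, 9, 0, 0, 3], [10, 3, 8, 0, 0, 3]]),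
   ([2, 5, 6, 7, 7, 7], [[6, 5, 1, 0, 0, 0], [6, 7, 11, 0, 0, 0], [7, 1, 3, 0, 0, 1], [7, 9, 7, 0, 0, 1], [2, 5, 11, 0, 0, 6], [10, 7, 1, 0, 0, 6]]),
   ([2, 5, 8, 10, 10, 10], [[7, 10, 6, 0, 0, 1], [9, 11, 2, 0, 0, 2], [3, 11, 7, 0, 0, 3], [8, 4, 9, 0, 0, 3], [1, 10, 8, 0, 0, 5], [7, 7, 5, 0, 0, 5]]),
   ([2, 5, 9, 9, 10, 10], [[4, 6, 2, 0, 0, 0], [8, 6, 10, 0, 0, 0], [3, 3, 5, 0, 0, 1], [11, 3, 9, 0, 0, 1], [5, 1, 2, 0, 0, 4], [8, 1, 11, 0, 0, 4]]),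
   ([2, 6, 6, 6, 6, 8], [[0, 3, 9, 0, 0, 0], [0, 9, 3, 0, 0, 0], [2, 4, 4, 0, 0, 2], [5, 6, 11, 0, 0, 2], [5, 11, 6, 0, 0, 2], [11, 10, 10, 0, 0, 5]]),
   ([2, 6, 6, 6, 7, 7], [[0, 3, 9, 0, 0, 0], [0, 9, 3, 0, 0, 0], [10, 6, 7, 0, 0, 1], [10, 7, 6, 0, 0, 1], [0, 2, 7, 0, 0, 3], [0, 7, 2, 0, 0, 3]]),
   ([2, 6, 7, 10, 10, 10], [[0, 8, 2, 0, 0, 2], [7, 9, 4, 0, 0, 4], [3, 3, 1, 0, 0, 5], [0, 0, 6, 0, 0, 6], [9, 9, 11, 0, 0, 7], [5, 3, 8, 0, 0, 8]]),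
   ([2, 6, 8, 9, 10, 10], [[2, 10, 11, 0, 0, 1], [6, 7, 10, 0, 0, 1], [11, 6, 5, 0, 0, 2], [2, 4, 1, 0, 0, 5], [5, 4, 9, 0, 0, 6], [7, 8, 3, 0, 0, 6]]),
   ([2, 6, 9, 9, 9, 10], [[1, 9, 2, 0, 0, 0], [3, 6, 3, 0, 0, 0], [4, 3, 5, 0, 0, 0], [8, 9, 7, 0, 0, 0], [9, 6, 9, 0, 0, 0], [11, 3, 10, 0, 0, 0]]),
   ([2, 7, 7, 9, 10, 10], [[0, 5, 7, 0, 0, 0], [0, 7, 5, 0, 0, 0], [7, 6, 9, 0, 0, 2], [7, 9, 6, 0, 0, 2], [8, 3, 11, 0, 0, 2], [8, 11, 3, 0, 0, 2]]),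
   ([2, 7, 8, 8, 10, 10], [[8, 6, 8, 0, 0, 2], [1, 3, 5, 0, 0, 3], [10, 1, 10, 0, 0, 3], [0, 6, 0, 0, 0, 6], [2, 11, 2, 0, 0, 9], [11, 9, 7, 0, 0, 9]]),
   ([2, 7, 8, 9, 9, 10], [[8, 6, 8, 0, 0, 2], [1, 3, 5, 0, 0, 3], [10, 1, 10, 0, 0, 3], [0, 6, 0, 0, 0, 6], [2, 11, 2, 0, 0, 9], [11, 9, 7, 0, 0, 9]]),
   ([2, 7, 9, 9, 9, 9], [[2, 6, 4, 0, 0, 0], [10, 6, 8, 0, 0, 0], [8, 11, 4, 0, 0, 1], [10, 11, 2, 0, 0, 1], [7, 11, 4, 0, 0, 2], [10, 11, 1, 0, 0, 2]]),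
   ([2, 8, 8, 8, 9, 10], [[0, 1, 11, 0, 0, 0], [0, 11, 1, 0, 0, 0], [7, 8, 8, 0, 0, 1], [5, 5, 11, 0, 0, 3], [5, 11, 5, 0, 0, 3], [11, 4, 6, 0, 0, 3]]),
   ([2, 8, 8, 9, 9, 9], [[0, 1, 11, 0, 0, 0], [0, 11, 1, 0, 0, 0], [3, 1, 6, 0, 0, 2], [3, 6, 1, 0, 0, 2], [11, 0, 11, 0, 0, 2], [11, 11, 0, 0, 0, 2]]),
   ([3, 3, 3, 3, 3, 8], [[0, 6, 6, 0, 0, 0], [6, 0, 6, 0, 0, 0], [6, 6, 0, 0, 0, 0], [3, 10, 10, 0, 0, 1], [10, 3, 10, 0, 0, 1], [10, 10, 3, 0, 0, 1]]),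
   ([3, 3, 3, 3, 4, 7], [[0, 6, 6, 0, 0, 0], [6, 0, 6, 0, 0, 0], [6, 6, 0, 0, 0, 0], [2, 6, 10, 0, 0, 6], [2, 10, 6, 0, 0, 6], [6, 2, 10, 0, 0, 6]]),
   ([3, 3, 3, 3, 5, 6], [[0, 6, 6, 0, 0, 0], [6, 0, 6, 0, 0, 0], [6, 6, 0, 0, 0, 0], [0, 10, 10, 0, 0, 4], [10, 0, 10, 0, 0, 4], [10, 10, 0, 0, 0, 4]]),
   ([3, 3, 3, 4, 4, 6], [[0, 6, 6, 0, 0, 0], [6, 0, 6, 0, 0, 0], [6, 6, 0, 0, 0, 0], [0, 10, 10, 0, 0, 4], [10, 0, 10, 0, 0, 4], [10, 10, 0, 0, 0, 4]]),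
   ([3, 3, 3, 4, 5, 5], [[0, 6, 6, 0, 0, 0], [6, 0, 6, 0, 0, 0], [6, 6, 0, 0, 0, 0], [0, 3, 7, 0, 0, 2], [0, 7, 3, 0, 0, 2], [3, 0, 7, 0, 0, 2]]),
   ([3, 3, 3, 5, 10, 10], [[0, 6, 6, 0, 0, 0], [6, 0, 6, 0, 0, 0], [6, 6, 0, 0, 0, 0], [0, 2, 9, 0, 0, 1], [0, 9, 2, 0, 0, 1], [2, 0, 9, 0, 0, 1]]),
   ([3, 3, 3, 6, 9, 10], [[0, 6, 6, 0, 0, 0], [6, 0, 6, 0, 0, 0], [6, 6, 0, 0, 0, 0], [0, 2, 9, 0, 0, 1], [0, 9, 2, 0, 0, 1], [2, 0, 9, 0, 0, 1]]),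
   ([3, 3, 3, 7, 8, 10], [[0, 6, 6, 0, 0, 0], [6, 0, 6, 0, 0, 0], [6, 6, 0, 0, 0, 0], [0, 2, 9, 0, 0, 1], [0, 9, 2, 0, 0, 1], [2, 0, 9, 0, 0, 1]]),
   ([3, 3, 3, 7, 9, 9], [[0, 6, 6, 0, 0, 0], [6, 0, 6, 0, 0, 0], [6, 6, 0, 0, 0, 0], [1, 9, 10, 0, 0, 4], [1, 10, 9, 0, 0, 4], [9, 1, 10, 0, 0, 4]]),
   ([3, 3, 3, 8, 8, 9], [[0, 6, 6, 0, 0, 0], [6, 0, 6, 0, 0, 0], [6, 6, 0, 0, 0, 0], [1, 9, 10, 0, 0, 4], [1, 10, 9, 0, 0, 4], [9, 1, 10, 0, 0, 4]]),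
   ([3, 3, 4, 4, 4, 5], [[6, 6, 0, 0, 0, 0], [1, 10, 11, 0, 0, 2], [3, 7, 0, 0, 0, 2], [7, 3, 0, 0, 0, 2], [10, 1, 11, 0, 0, 2], [7, 7, 7, 0, 0, 3]]),
   ([3, 3, 4, 4, 10, 10], [[6, 6, 0, 0, 0, 0], [2, 9, 0, 0, 0, 1], [9, 2, 0, 0, 0, 1], [1, 3, 5, 0, 0, 3], [3, 1, 5, 0, 0, 3], [4, 7, 10, 0, 0, 3]]),
   ([3, 3, 4, 5, 9, 10], [[6, 6, 0, 0, 0, 0], [2, 9, 0, 0, 0, 1], [9, 2, 0, 0, 0, 1], [1, 3, 5, 0, 0, 3], [3, 1, 5, 0, 0, 3], [4, 7, 10, 0, 0, 3]]),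
   ([3, 3, 4, 6, 8, 10], [[6, 6, 0, 0, 0, 0], [2, 9, 0, 0, 0, 1], [9, 2, 0, 0, 0, 1], [1, 3, 5, 0, 0, 3], [3, 1, 5, 0, 0, 3], [4, 7, 10, 0, 0, 3]]),
   ([3, 3, 4, 6, 9, 9], [[6, 6, 0, 0, 0, 0], [0, 7, 1, 0, 0, 4], [7, 0, 1, 0, 0, 4], [4, 7, 7, 0, 0, 6], [5, 8, 5, 0, 0, 6], [7, 4, 7, 0, 0, 6]]),
   ([3, 3, 4, 7, 7, 10], [[6, 6, 0, 0, 0, 0], [2, 9, 0, 0, 0, 1], [9, 2, 0, 0, 0, 1], [1, 3, 5, 0, 0, 3], [3, 1, 5, 0, 0, 3], [4, 7, 10, 0, 0, 3]]),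
   ([3, 3, 4, 7, 8, 9], [[6, 6, 0, 0, 0, 0], [0, 7, 1, 0, 0, 4], [7, 0, 1, 0, 0, 4], [4, 7, 7, 0, 0, 6], [5, 8, 5, 0, 0, 6], [7, 4, 7, 0, 0, 6]]),
   ([3, 3, 4, 8, 8, 8], [[6, 6, 0, 0, 0, 0], [0, 1, 6, 0, 0, 5], [1, 0, 6, 0, 0, 5], [1, 11, 6, 0, 0, 6], [11, 1, 6, 0, 0, 6], [0, 11, 6, 0, 0, 7]]),
   ([3, 3, 5, 5, 8, 10], [[3, 7, 2, 0, 0, 0], [5, 9, 10, 0, 0, 0], [6, 6, 0, 0, 0, 0], [7, 3, 2, 0, 0, 0], [9, 5, 10, 0, 0, 0], [2, 9, 0, 0, 0, 1]]),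
   ([3, 3, 5, 5, 9, 9], [[3, 7, 2, 0, 0, 0], [5, 9, 10, 0, 0, 0], [6, 6, 0, 0, 0, 0], [7, 3, 2, 0, 0, 0], [9, 5, 10, 0, 0, 0], [0, 4, 7, 0, 0, 1]]),
   ([3, 3, 5, 6, 7, 10], [[3, 7, 2, 0, 0, 0], [5, 9, 10, 0, 0, 0], [6, 6, 0, 0, 0, 0], [7, 3, 2, 0, 0, 0], [9, 5, 10, 0, 0, 0], [2, 9, 0, 0, 0, 1]])]

/-- Solutions for the prime 11, part 8. -/
def sols11p8 : List (List Nat × List (List Nat)) :=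
  [([3, 3, 5, 6, 8, 9], [[3, 7, 2, 0, 0, 0], [5, 9, 10, 0, 0, 0], [6, 6, 0, 0, 0, 0], [7, 3, 2, 0, 0, 0], [9, 5, 10, 0, 0, 0], [0, 4, 7, 0, 0, 1]]),
   ([3, 3, 5, 7, 7, 9], [[3, 7, 2, 0, 0, 0], [5, 9, 10, 0, 0, 0], [6, 6, 0, 0, 0, 0], [7, 3, 2, 0, 0, 0], [9, 5, 10, 0, 0, 0], [0, 4, 7, 0, 0, 1]]),
   ([3, 3, 5, 7, 8, 8], [[3, 7, 2, 0, 0, 0], [5, 9, 10, 0, 0, 0], [6, 6, 0, 0, 0, 0], [7, 3, 2, 0, 0, 0], [9, 5, 10, 0, 0, 0], [3, 6, 2, 0, 0, 1]]),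
   ([3, 3, 6, 6, 6, 10], [[2, 2, 8, 0, 0, 0], [6, 6, 0, 0, 0, 0], [10, 10, 4, 0, 0, 0], [2, 9, 0, 0, 0, 1], [9, 2, 0, 0, 0, 1], [1, 4, 4, 0, 0, 3]]),
   ([3, 3, 6, 6, 7, 9], [[2, 2, 8, 0, 0, 0], [6, 6, 0, 0, 0, 0], [10, 10, 4, 0, 0, 0], [3, 5, 1, 0, 0, 3], [5, 3, 1, 0, 0, 3], [0, 2, 5, 0, 0, 5]]),
   ([3, 3, 6, 6, 8, 8], [[2, 2, 8, 0, 0, 0], [6, 6, 0, 0, 0, 0], [10, 10, 4, 0, 0, 0], [0, 3, 6, 0, 0, 3], [3, 0, 6, 0, 0, 3], [0, 11, 9, 0, 0, 4]]),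
   ([3, 3, 6, 7, 7, 8], [[2, 2, 8, 0, 0, 0], [6, 6, 0, 0, 0, 0], [10, 10, 4, 0, 0, 0], [0, 3, 6, 0, 0, 3], [3, 0, 6, 0, 0, 3], [0, 11, 9, 0, 0, 4]]),
   ([3, 3, 7, 7, 7, 7], [[6, 6, 0, 0, 0, 0], [4, 8, 9, 0, 0, 3], [8, 4, 9, 0, 0, 3], [5, 7, 8, 0, 0, 4], [6, 10, 4, 0, 0, 4], [7, 5, 8, 0, 0, 4]]),
   ([3, 3, 9, 10, 10, 10], [[6, 6, 0, 0, 0, 0], [2, 9, 0, 0, 0, 1], [3, 4, 4, 0, 0, 1], [4, 3, 4, 0, 0, 1], [9, 2, 0, 0, 0, 1], [4, 11, 7, 0, 0, 2]]),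
   ([3, 4, 4, 4, 4, 4], [[0, 4, 8, 0, 0, 0], [0, 8, 4, 0, 0, 0], [5, 2, 4, 0, 0, 1], [5, 4, 2, 0, 0, 1], [5, 1, 4, 0, 0, 2], [5, 4, 1, 0, 0, 2]]),
   ([3, 4, 4, 4, 9, 10], [[0, 4, 8, 0, 0, 0], [0, 8, 4, 0, 0, 0], [6, 5, 10, 0, 0, 3], [6, 10, 5, 0, 0, 3], [4, 7, 9, 0, 0, 4], [4, 9, 7, 0, 0, 4]]),
   ([3, 4, 4, 5, 8, 10], [[0, 4, 8, 0, 0, 0], [0, 8, 4, 0, 0, 0], [6, 5, 10, 0, 0, 3], [6, 10, 5, 0, 0, 3], [4, 7, 9, 0, 0, 4], [4, 9, 7, 0, 0, 4]]),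
   ([3, 4, 4, 5, 9, 9], [[0, 4, 8, 0, 0, 0], [0, 8, 4, 0, 0, 0], [8, 4, 11, 0, 0, 1], [8, 11, 4, 0, 0, 1], [6, 1, 3, 0, 0, 2], [6, 3, 1, 0, 0, 2]]),
   ([3, 4, 4, 6, 7, 10], [[0, 4, 8, 0, 0, 0], [0, 8, 4, 0, 0, 0], [6, 5, 10, 0, 0, 3], [6, 10, 5, 0, 0, 3], [4, 7, 9, 0, 0, 4], [4, 9, 7, 0, 0, 4]]),
   ([3, 4, 4, 6, 8, 9], [[0, 4, 8, 0, 0, 0], [0, 8, 4, 0, 0, 0], [8, 4, 11, 0, 0, 1], [8, 11, 4, 0, 0, 1], [6, 1, 3, 0, 0, 2], [6, 3, 1, 0, 0, 2]]),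
   ([3, 4, 4, 7, 7, 9], [[0, 4, 8, 0, 0, 0], [0, 8, 4, 0, 0, 0], [8, 4, 11, 0, 0, 1], [8, 11, 4, 0, 0, 1], [6, 1, 3, 0, 0, 2], [6, 3, 1, 0, 0, 2]]),
   ([3, 4, 4, 7, 8, 8], [[0, 4, 8, 0, 0, 0], [0, 8, 4, 0, 0, 0], [9, 6, 8, 0, 0, 1], [9, 8, 6, 0, 0, 1], [7, 6, 8, 0, 0, 3], [7, 8, 6, 0, 0, 3]]),
   ([3, 4, 5, 5, 7, 10], [[10, 2, 11, 0, 0, 1], [1, 4, 4, 0, 0, 3], [11, 1, 9, 0, 0, 3], [8, 9, 3, 0, 0, 4], [2, 0, 5, 0, 0, 5], [5, 1, 1, 0, 0, 5]]),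
   ([3, 4, 5, 5, 8, 9], [[4, 0, 7, 0, 0, 1], [0, 10, 11, 0, 0, 3], [7, 1, 0, 0, 0, 4], [1, 2, 4, 0, 0, 5], [7, 4, 8, 0, 0, 5], [5, 8, 4, 0, 0, 7]]),
   ([3, 4, 5, 6, 6, 10], [[10, 2, 11, 0, 0, 1], [1, 4, 4, 0, 0, 3], [11, 1, 9, 0, 0, 3], [8, 9, 3, 0, 0, 4], [2, 0, 5, 0, 0, 5], [5, 1, 1, 0, 0, 5]]),
   ([3, 4, 5, 6, 7, 9], [[4, 0, 7, 0, 0, 1], [0, 10, 11, 0, 0, 3], [7, 1, 0, 0, 0, 4], [1, 2, 4, 0, 0, 5], [7, 4, 8, 0, 0, 5], [5, 8, 4, 0, 0, 7]]),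
   ([3, 4, 5, 6, 8, 8], [[8, 7, 8, 0, 0, 1], [1, 10, 11, 0, 0, 2], [7, 7, 8, 0, 0, 2], [1, 5, 3, 0, 0, 3], [1, 6, 0, 0, 0, 5], [3, 7, 9, 0, 0, 5]]),
   ([3, 4, 5, 7, 7, 8], [[8, 7, 8, 0, 0, 1], [1, 10, 11, 0, 0, 2], [7, 7, 8, 0, 0, 2], [1, 5, 3, 0, 0, 3], [1, 6, 0, 0, 0, 5], [3, 7, 9, 0, 0, 5]]),
   ([3, 4, 6, 6, 6, 9], [[0, 11, 11, 0, 0, 2], [4, 2, 2, 0, 0, 4], [7, 1, 0, 0, 0, 4], [1, 5, 1, 0, 0, 5], [2, 0, 5, 0, 0, 5], [11, 4, 4, 0, 0, 5]]),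
   ([3, 4, 6, 6, 7, 8], [[3, 9, 11, 0, 0, 1], [11, 7, 4, 0, 0, 2], [3, 0, 6, 0, 0, 3], [5, 3, 1, 0, 0, 3], [11, 0, 9, 0, 0, 4], [1, 6, 0, 0, 0, 5]]),
   ([3, 4, 6, 7, 7, 7], [[2, 4, 5, 0, 0, 1], [11, 3, 9, 0, 0, 1], [10, 5, 7, 0, 0, 2], [0, 3, 6, 0, 0, 3], [1, 5, 3, 0, 0, 3], [2, 10, 8, 0, 0, 4]]),
   ([3, 4, 8, 10, 10, 10], [[1, 6, 5, 0, 0, 0], [11, 6, 7, 0, 0, 0], [3, 4, 4, 0, 0, 1], [10, 4, 9, 0, 0, 1], [0, 3, 4, 0, 0, 5], [7, 7, 5, 0, 0, 5]]),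
   ([3, 4, 9, 9, 10, 10], [[5, 11, 8, 0, 0, 0], [7, 1, 4, 0, 0, 0], [3, 3, 5, 0, 0, 1], [5, 7, 11, 0, 0, 1], [1, 5, 4, 0, 0, 2], [8, 3, 10, 0, 0, 3]]),
   ([3, 5, 5, 5, 6, 10], [[4, 1, 6, 0, 0, 1], [4, 6, 1, 0, 0, 1], [11, 2, 9, 0, 0, 2], [11, 9, 2, 0, 0, 2], [7, 4, 9, 0, 0, 4], [7, 9, 4, 0, 0, 4]]),
   ([3, 5, 5, 5, 7, 9], [[4, 0, 7, 0, 0, 1], [4, 7, 0, 0, 0, 1], [0, 11, 11, 0, 0, 2], [4, 2, 2, 0, 0, 4], [11, 4, 4, 0, 0, 5], [6, 3, 9, 0, 0, 6]]),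
   ([3, 5, 5, 5, 8, 8], [[4, 3, 4, 0, 0, 1], [4, 4, 3, 0, 0, 1], [5, 8, 9, 0, 0, 2], [5, 9, 8, 0, 0, 2], [7, 3, 4, 0, 0, 10], [7, 4, 3, 0, 0, 10]]),
   ([3, 5, 5, 6, 6, 9], [[4, 0, 7, 0, 0, 1], [4, 7, 0, 0, 0, 1], [0, 11, 11, 0, 0, 2], [4, 2, 2, 0, 0, 4], [11, 4, 4, 0, 0, 5], [6, 3, 9, 0, 0, 6]]),
   ([3, 5, 5, 6, 7, 8], [[4, 3, 4, 0, 0, 1], [4, 4, 3, 0, 0, 1], [5, 8, 9, 0, 0, 2], [5, 9, 8, 0, 0, 2], [7, 3, 4, 0, 0, 10], [7, 4, 3, 0, 0, 10]]),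
   ([3, 5, 5, 7, 7, 7], [[7, 7, 9, 0, 0, 1], [7, 9, 7, 0, 0, 1], [9, 5, 8, 0, 0, 2], [9, 8, 5, 0, 0, 2], [3, 4, 7, 0, 0, 10], [3, 7, 4, 0, 0, 10]]),
   ([3, 5, 6, 6, 6, 8], [[6, 2, 4, 0, 0, 0], [6, 10, 8, 0, 0, 0], [5, 4, 2, 0, 0, 1], [5, 8, 10, 0, 0, 1], [3, 0, 6, 0, 0, 3], [11, 0, 9, 0, 0, 4]]),
   ([3, 5, 6, 6, 7, 7], [[6, 2, 4, 0, 0, 0], [6, 10, 8, 0, 0, 0], [5, 3, 1, 0, 0, 3], [5, 7, 9, 0, 0, 3], [11, 5, 5, 0, 0, 3], [11, 11, 11, 0, 0, 3]]),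
   ([3, 5, 7, 10, 10, 10], [[0, 3, 8, 0, 0, 1], [1, 7, 3, 0, 0, 1], [3, 4, 4, 0, 0, 1], [3, 10, 9, 0, 0, 2], [5, 1, 4, 0, 0, 2], [1, 9, 10, 0, 0, 4]]),
   ([3, 5, 8, 9, 10, 10], [[4, 1, 3, 0, 0, 4], [9, 1, 10, 0, 0, 4], [1, 11, 7, 0, 0, 5], [2, 5, 0, 0, 0, 5], [5, 9, 5, 0, 0, 5], [6, 5, 8, 0, 0, 5]]),
   ([3, 5, 9, 9, 9, 10], [[4, 7, 1, 0, 0, 0], [8, 5, 11, 0, 0, 0], [1, 2, 8, 0, 0, 1], [11, 11, 1, 0, 0, 1], [11, 6, 5, 0, 0, 2], [10, 8, 2, 0, 0, 4]]),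
   ([3, 6, 6, 6, 6, 7], [[0, 3, 9, 0, 0, 0], [0, 9, 3, 0, 0, 0], [6, 2, 3, 0, 0, 1], [6, 3, 2, 0, 0, 1], [2, 4, 4, 0, 0, 2], [0, 2, 7, 0, 0, 3]])]

/-- Solutions for the prime 11, part 9. -/
def sols11p9 : List (List Nat × List (List Nat)) :=
  [([3, 6, 6, 10, 10, 10], [[0, 3, 9, 0, 0, 0], [0, 9, 3, 0, 0, 0], [3, 4, 4, 0, 0, 1], [0, 10, 11, 0, 0, 3], [0, 11, 10, 0, 0, 3], [2, 7, 11, 0, 0, 4]]),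
   ([3, 6, 7, 9, 10, 10], [[8, 5, 10, 0, 0, 1], [0, 8, 2, 0, 0, 2], [4, 10, 8, 0, 0, 2], [11, 2, 8, 0, 0, 3], [5, 0, 3, 0, 0, 4], [0, 0, 6, 0, 0, 6]]),
   ([3, 6, 8, 8, 10, 10], [[1, 3, 8, 0, 0, 0], [2, 3, 7, 0, 0, 0], [3, 6, 3, 0, 0, 0], [9, 6, 9, 0, 0, 0], [10, 9, 5, 0, 0, 0], [11, 9, 4, 0, 0, 0]]),
   ([3, 6, 8, 9, 9, 10], [[1, 3, 8, 0, 0, 0], [2, 3, 7, 0, 0, 0], [3, 6, 3, 0, 0, 0], [9, 6, 9, 0, 0, 0], [10, 9, 5, 0, 0, 0], [11, 9, 4, 0, 0, 0]]),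
   ([3, 6, 9, 9, 9, 9], [[2, 5, 5, 0, 0, 0], [10, 7, 7, 0, 0, 0], [9, 8, 6, 0, 0, 1], [9, 5, 8, 0, 0, 2], [3, 10, 8, 0, 0, 3], [3, 7, 10, 0, 0, 4]]),
   ([3, 7, 7, 8, 10, 10], [[0, 5, 7, 0, 0, 0], [0, 7, 5, 0, 0, 0], [8, 6, 8, 0, 0, 2], [8, 8, 6, 0, 0, 2], [10, 1, 10, 0, 0, 3], [10, 10, 1, 0, 0, 3]]),
   ([3, 7, 7, 9, 9, 10], [[0, 5, 7, 0, 0, 0], [0, 7, 5, 0, 0, 0], [8, 6, 8, 0, 0, 2], [8, 8, 6, 0, 0, 2], [10, 1, 10, 0, 0, 3], [10, 10, 1, 0, 0, 3]]),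
   ([3, 7, 8, 8, 9, 10], [[1, 7, 4, 0, 0, 0], [2, 5, 5, 0, 0, 0], [10, 7, 7, 0, 0, 0], [11, 5, 8, 0, 0, 0], [4, 8, 11, 0, 0, 1], [5, 8, 10, 0, 0, 1]]),
   ([3, 7, 8, 9, 9, 9], [[1, 7, 4, 0, 0, 0], [2, 5, 5, 0, 0, 0], [10, 7, 7, 0, 0, 0], [11, 5, 8, 0, 0, 0], [6, 11, 5, 0, 0, 2], [11, 11, 0, 0, 0, 2]]),
   ([3, 8, 8, 8, 8, 10], [[0, 1, 11, 0, 0, 0], [0, 11, 1, 0, 0, 0], [5, 1, 6, 0, 0, 0], [5, 6, 1, 0, 0, 0], [7, 6, 11, 0, 0, 0], [7, 11, 6, 0, 0, 0]]),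
   ([3, 8, 8, 8, 9, 9], [[0, 1, 11, 0, 0, 0], [0, 11, 1, 0, 0, 0], [5, 1, 6, 0, 0, 0], [5, 6, 1, 0, 0, 0], [7, 6, 11, 0, 0, 0], [7, 11, 6, 0, 0, 0]]),
   ([4, 4, 4, 4, 8, 10], [[0, 4, 8, 0, 0, 0], [0, 8, 4, 0, 0, 0], [4, 0, 8, 0, 0, 0], [4, 8, 0, 0, 0, 0], [8, 0, 4, 0, 0, 0], [8, 4, 0, 0, 0, 0]]),
   ([4, 4, 4, 4, 9, 9], [[0, 4, 8, 0, 0, 0], [0, 8, 4, 0, 0, 0], [4, 0, 8, 0, 0, 0], [4, 8, 0, 0, 0, 0], [8, 0, 4, 0, 0, 0], [8, 4, 0, 0, 0, 0]]),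
   ([4, 4, 4, 5, 7, 10], [[0, 4, 8, 0, 0, 0], [0, 8, 4, 0, 0, 0], [4, 0, 8, 0, 0, 0], [4, 8, 0, 0, 0, 0], [8, 0, 4, 0, 0, 0], [8, 4, 0, 0, 0, 0]]),
   ([4, 4, 4, 5, 8, 9], [[0, 4, 8, 0, 0, 0], [0, 8, 4, 0, 0, 0], [4, 0, 8, 0, 0, 0], [4, 8, 0, 0, 0, 0], [8, 0, 4, 0, 0, 0], [8, 4, 0, 0, 0, 0]]),
   ([4, 4, 4, 6, 6, 10], [[0, 4, 8, 0, 0, 0], [0, 8, 4, 0, 0, 0], [4, 0, 8, 0, 0, 0], [4, 8, 0, 0, 0, 0], [8, 0, 4, 0, 0, 0], [8, 4, 0, 0, 0, 0]]),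
   ([4, 4, 4, 6, 7, 9], [[0, 4, 8, 0, 0, 0], [0, 8, 4, 0, 0, 0], [4, 0, 8, 0, 0, 0], [4, 8, 0, 0, 0, 0], [8, 0, 4, 0, 0, 0], [8, 4, 0, 0, 0, 0]]),
   ([4, 4, 4, 6, 8, 8], [[0, 4, 8, 0, 0, 0], [0, 8, 4, 0, 0, 0], [4, 0, 8, 0, 0, 0], [4, 8, 0, 0, 0, 0], [8, 0, 4, 0, 0, 0], [8, 4, 0, 0, 0, 0]]),
   ([4, 4, 4, 7, 7, 8], [[0, 4, 8, 0, 0, 0], [0, 8, 4, 0, 0, 0], [4, 0, 8, 0, 0, 0], [4, 8, 0, 0, 0, 0], [8, 0, 4, 0, 0, 0], [8, 4, 0, 0, 0, 0]]),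
   ([4, 4, 5, 5, 6, 10], [[4, 8, 0, 0, 0, 0], [8, 4, 0, 0, 0, 0], [7, 11, 3, 0, 0, 3], [11, 7, 3, 0, 0, 3], [2, 10, 6, 0, 0, 6], [10, 2, 6, 0, 0, 6]]),
   ([4, 4, 5, 5, 7, 9], [[4, 8, 0, 0, 0, 0], [8, 4, 0, 0, 0, 0], [0, 10, 11, 0, 0, 3], [10, 0, 11, 0, 0, 3], [3, 10, 7, 0, 0, 4], [10, 3, 7, 0, 0, 4]]),
   ([4, 4, 5, 5, 8, 8], [[4, 8, 0, 0, 0, 0], [8, 4, 0, 0, 0, 0], [4, 4, 3, 0, 0, 1], [1, 2, 6, 0, 0, 3], [2, 1, 6, 0, 0, 3], [7, 9, 4, 0, 0, 4]]),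
   ([4, 4, 5, 6, 6, 9], [[4, 8, 0, 0, 0, 0], [8, 4, 0, 0, 0, 0], [0, 10, 11, 0, 0, 3], [10, 0, 11, 0, 0, 3], [3, 10, 7, 0, 0, 4], [10, 3, 7, 0, 0, 4]]),
   ([4, 4, 5, 6, 7, 8], [[4, 8, 0, 0, 0, 0], [8, 4, 0, 0, 0, 0], [4, 4, 3, 0, 0, 1], [1, 2, 6, 0, 0, 3], [2, 1, 6, 0, 0, 3], [7, 9, 4, 0, 0, 4]]),
   ([4, 4, 5, 7, 7, 7], [[4, 8, 0, 0, 0, 0], [8, 4, 0, 0, 0, 0], [0, 5, 6, 0, 0, 1], [5, 0, 6, 0, 0, 1], [7, 7, 9, 0, 0, 1], [4, 6, 0, 0, 0, 2]]),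
   ([4, 4, 6, 6, 6, 8], [[4, 8, 0, 0, 0, 0], [8, 4, 0, 0, 0, 0], [2, 4, 2, 0, 0, 4], [4, 2, 2, 0, 0, 4], [1, 11, 6, 0, 0, 6], [11, 1, 6, 0, 0, 6]]),
   ([4, 4, 6, 6, 7, 7], [[4, 8, 0, 0, 0, 0], [8, 4, 0, 0, 0, 0], [9, 10, 4, 0, 0, 1], [10, 9, 4, 0, 0, 1], [4, 6, 0, 0, 0, 2], [6, 4, 0, 0, 0, 2]]),
   ([4, 4, 7, 10, 10, 10], [[4, 6, 2, 0, 0, 0], [4, 8, 0, 0, 0, 0], [6, 4, 2, 0, 0, 0], [6, 8, 10, 0, 0, 0], [8, 4, 0, 0, 0, 0], [8, 6, 10, 0, 0, 0]]),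
   ([4, 4, 8, 9, 10, 10], [[4, 8, 0, 0, 0, 0], [8, 4, 0, 0, 0, 0], [4, 11, 5, 0, 0, 4], [11, 4, 5, 0, 0, 4], [0, 3, 4, 0, 0, 5], [3, 0, 4, 0, 0, 5]]),
   ([4, 4, 9, 9, 9, 10], [[4, 8, 0, 0, 0, 0], [8, 4, 0, 0, 0, 0], [11, 11, 1, 0, 0, 1], [4, 7, 7, 0, 0, 6], [5, 8, 5, 0, 0, 6], [7, 4, 7, 0, 0, 6]]),
   ([4, 5, 5, 5, 5, 10], [[5, 3, 4, 0, 0, 0], [5, 4, 3, 0, 0, 0], [7, 8, 9, 0, 0, 0], [7, 9, 8, 0, 0, 0], [7, 2, 2, 0, 0, 1], [3, 8, 11, 0, 0, 2]]),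
   ([4, 5, 5, 5, 6, 9], [[5, 3, 4, 0, 0, 0], [5, 4, 3, 0, 0, 0], [7, 8, 9, 0, 0, 0], [7, 9, 8, 0, 0, 0], [3, 4, 4, 0, 0, 1], [0, 11, 11, 0, 0, 2]]),
   ([4, 5, 5, 5, 7, 8], [[5, 3, 4, 0, 0, 0], [5, 4, 3, 0, 0, 0], [7, 8, 9, 0, 0, 0], [7, 9, 8, 0, 0, 0], [2, 9, 10, 0, 0, 3], [2, 10, 9, 0, 0, 3]]),
   ([4, 5, 5, 6, 6, 8], [[5, 3, 4, 0, 0, 0], [5, 4, 3, 0, 0, 0], [7, 8, 9, 0, 0, 0], [7, 9, 8, 0, 0, 0], [2, 9, 10, 0, 0, 3], [2, 10, 9, 0, 0, 3]]),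
   ([4, 5, 5, 6, 7, 7], [[5, 3, 4, 0, 0, 0], [5, 4, 3, 0, 0, 0], [7, 8, 9, 0, 0, 0], [7, 9, 8, 0, 0, 0], [5, 0, 6, 0, 0, 1], [5, 6, 0, 0, 0, 1]]),
   ([4, 5, 6, 6, 6, 7], [[5, 6, 0, 0, 0, 1], [4, 5, 1, 0, 0, 2], [4, 7, 11, 0, 0, 2], [3, 0, 6, 0, 0, 3], [2, 4, 2, 0, 0, 4], [2, 8, 10, 0, 0, 4]]),
   ([4, 5, 6, 10, 10, 10], [[7, 2, 10, 0, 0, 5], [7, 4, 8, 0, 0, 5], [0, 1, 5, 0, 0, 6], [0, 11, 7, 0, 0, 6], [5, 8, 4, 0, 0, 7], [5, 10, 2, 0, 0, 7]]),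
   ([4, 5, 7, 9, 10, 10], [[5, 6, 1, 0, 0, 0], [7, 6, 11, 0, 0, 0], [0, 3, 8, 0, 0, 1], [2, 3, 6, 0, 0, 1], [5, 9, 5, 0, 0, 5], [10, 5, 4, 0, 0, 5]]),
   ([4, 5, 8, 8, 10, 10], [[1, 4, 6, 0, 0, 1], [5, 7, 10, 0, 0, 2], [7, 11, 4, 0, 0, 2], [3, 0, 4, 0, 0, 5], [4, 7, 7, 0, 0, 6], [8, 5, 5, 0, 0, 6]]),
   ([4, 5, 8, 9, 9, 10], [[1, 4, 6, 0, 0, 1], [5, 7, 10, 0, 0, 2], [7, 11, 4, 0, 0, 2], [3, 0, 4, 0, 0, 5], [4, 7, 7, 0, 0, 6], [8, 5, 5, 0, 0, 6]])]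

/-- Solutions for the prime 11, part 10. -/
def sols11p10 : List (List Nat × List (List Nat)) :=
  [([4, 5, 9, 9, 9, 9], [[2, 1, 9, 0, 0, 0], [10, 11, 3, 0, 0, 0], [1, 2, 8, 0, 0, 1], [10, 11, 0, 0, 0, 3], [6, 6, 8, 0, 0, 4], [11, 10, 11, 0, 0, 4]]),
   ([4, 6, 6, 6, 6, 6], [[0, 3, 9, 0, 0, 0], [0, 9, 3, 0, 0, 0], [3, 1, 8, 0, 0, 0], [3, 8, 1, 0, 0, 0], [9, 4, 11, 0, 0, 0], [9, 11, 4, 0, 0, 0]]),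
   ([4, 6, 6, 9, 10, 10], [[0, 3, 9, 0, 0, 0], [0, 9, 3, 0, 0, 0], [3, 1, 8, 0, 0, 0], [3, 8, 1, 0, 0, 0], [9, 4, 11, 0, 0, 0], [9, 11, 4, 0, 0, 0]]),
   ([4, 6, 7, 8, 10, 10], [[3, 6, 3, 0, 0, 0], [9, 6, 9, 0, 0, 0], [8, 11, 4, 0, 0, 1], [10, 11, 2, 0, 0, 1], [0, 8, 2, 0, 0, 2], [8, 8, 6, 0, 0, 2]]),
   ([4, 6, 7, 9, 9, 10], [[3, 6, 3, 0, 0, 0], [9, 6, 9, 0, 0, 0], [8, 11, 4, 0, 0, 1], [10, 11, 2, 0, 0, 1], [0, 8, 2, 0, 0, 2], [8, 8, 6, 0, 0, 2]]),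
   ([4, 6, 8, 8, 9, 10], [[2, 6, 2, 0, 0, 2], [8, 7, 7, 0, 0, 2], [5, 5, 11, 0, 0, 3], [3, 0, 4, 0, 0, 5], [8, 9, 2, 0, 0, 5], [2, 3, 1, 0, 0, 6]]),
   ([4, 6, 8, 9, 9, 9], [[4, 2, 5, 0, 0, 1], [0, 8, 2, 0, 0, 2], [7, 0, 3, 0, 0, 2], [11, 11, 0, 0, 0, 2], [9, 8, 4, 0, 0, 3], [9, 2, 9, 0, 0, 4]]),
   ([4, 7, 7, 7, 10, 10], [[0, 5, 7, 0, 0, 0], [0, 7, 5, 0, 0, 0], [1, 5, 6, 0, 0, 0], [1, 6, 5, 0, 0, 0], [11, 6, 7, 0, 0, 0], [11, 7, 6, 0, 0, 0]]),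
   ([4, 7, 7, 8, 9, 10], [[0, 5, 7, 0, 0, 0], [0, 7, 5, 0, 0, 0], [1, 5, 6, 0, 0, 0], [1, 6, 5, 0, 0, 0], [11, 6, 7, 0, 0, 0], [11, 7, 6, 0, 0, 0]]),
   ([4, 7, 7, 9, 9, 9], [[0, 5, 7, 0, 0, 0], [0, 7, 5, 0, 0, 0], [1, 5, 6, 0, 0, 0], [1, 6, 5, 0, 0, 0], [11, 6, 7, 0, 0, 0], [11, 7, 6, 0, 0, 0]]),
   ([4, 7, 8, 8, 8, 10], [[2, 4, 6, 0, 0, 0], [10, 8, 6, 0, 0, 0], [4, 5, 1, 0, 0, 2], [11, 10, 1, 0, 0, 2], [3, 0, 4, 0, 0, 5], [6, 9, 4, 0, 0, 5]]),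
   ([4, 7, 8, 8, 9, 9], [[2, 4, 6, 0, 0, 0], [10, 8, 6, 0, 0, 0], [1, 7, 2, 0, 0, 2], [6, 1, 3, 0, 0, 2], [7, 0, 3, 0, 0, 2], [0, 0, 6, 0, 0, 6]]),
   ([4, 8, 8, 8, 8, 9], [[0, 1, 11, 0, 0, 0], [0, 11, 1, 0, 0, 0], [7, 0, 3, 0, 0, 2], [7, 3, 0, 0, 0, 2], [8, 5, 9, 0, 0, 2], [8, 9, 5, 0, 0, 2]]),
   ([5, 5, 5, 5, 5, 9], [[0, 11, 11, 0, 0, 2], [11, 0, 11, 0, 0, 2], [11, 11, 0, 0, 0, 2], [0, 1, 1, 0, 0, 10], [1, 0, 1, 0, 0, 10], [1, 1, 0, 0, 0, 10]]),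
   ([5, 5, 5, 5, 6, 8], [[1, 2, 7, 0, 1, 1], [1, 7, 2, 0, 1, 1], [2, 1, 7, 0, 1, 1], [2, 7, 1, 0, 1, 1], [7, 1, 2, 0, 1, 1], [7, 2, 1, 0, 1, 1]]),
   ([5, 5, 5, 5, 7, 7], [[5, 6, 10, 0, 0, 3], [5, 10, 6, 0, 0, 3], [6, 5, 10, 0, 0, 3], [6, 10, 5, 0, 0, 3], [10, 5, 6, 0, 0, 3], [10, 6, 5, 0, 0, 3]]),
   ([5, 5, 5, 6, 6, 7], [[5, 6, 10, 0, 0, 3], [5, 10, 6, 0, 0, 3], [6, 5, 10, 0, 0, 3], [6, 10, 5, 0, 0, 3], [10, 5, 6, 0, 0, 3], [10, 6, 5, 0, 0, 3]]),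
   ([5, 5, 5, 10, 10, 10], [[4, 6, 8, 0, 0, 6], [4, 8, 6, 0, 0, 6], [6, 4, 8, 0, 0, 6], [6, 8, 4, 0, 0, 6], [8, 4, 6, 0, 0, 6], [8, 6, 4, 0, 0, 6]]),
   ([5, 5, 6, 6, 6, 6], [[0, 0, 9, 0, 0, 3], [0, 3, 6, 0, 0, 3], [3, 0, 6, 0, 0, 3], [2, 2, 4, 0, 0, 4], [2, 10, 8, 0, 0, 4], [10, 2, 8, 0, 0, 4]]),
   ([5, 5, 6, 9, 10, 10], [[5, 9, 5, 0, 0, 5], [5, 11, 3, 0, 0, 5], [9, 5, 5, 0, 0, 5], [9, 11, 11, 0, 0, 5], [11, 5, 3, 0, 0, 5], [11, 9, 11, 0, 0, 5]]),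
   ([5, 5, 7, 8, 10, 10], [[0, 3, 8, 0, 0, 1], [3, 0, 8, 0, 0, 1], [8, 8, 6, 0, 0, 2], [10, 10, 1, 0, 0, 3], [3, 10, 7, 0, 0, 4], [4, 5, 11, 0, 0, 4]]),
   ([5, 5, 7, 9, 9, 10], [[0, 3, 8, 0, 0, 1], [3, 0, 8, 0, 0, 1], [8, 8, 6, 0, 0, 2], [10, 10, 1, 0, 0, 3], [3, 10, 7, 0, 0, 4], [4, 5, 11, 0, 0, 4]]),
   ([5, 5, 8, 8, 9, 10], [[5, 5, 11, 0, 0, 3], [2, 11, 7, 0, 0, 4], [5, 9, 6, 0, 0, 4], [9, 5, 6, 0, 0, 4], [11, 2, 7, 0, 0, 4], [6, 6, 6, 0, 0, 6]]),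
   ([5, 5, 8, 9, 9, 9], [[1, 4, 6, 0, 0, 1], [4, 1, 6, 0, 0, 1], [11, 11, 0, 0, 0, 2], [10, 11, 11, 0, 0, 4], [11, 10, 11, 0, 0, 4], [0, 0, 6, 0, 0, 6]]),
   ([5, 6, 6, 8, 10, 10], [[0, 3, 9, 0, 0, 0], [0, 9, 3, 0, 0, 0], [3, 3, 6, 0, 0, 0], [3, 6, 3, 0, 0, 0], [9, 6, 9, 0, 0, 0], [9, 9, 6, 0, 0, 0]]),
   ([5, 6, 6, 9, 9, 10], [[0, 3, 9, 0, 0, 0], [0, 9, 3, 0, 0, 0], [3, 3, 6, 0, 0, 0], [3, 6, 3, 0, 0, 0], [9, 6, 9, 0, 0, 0], [9, 9, 6, 0, 0, 0]]),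
   ([5, 6, 7, 7, 10, 10], [[3, 0, 8, 0, 0, 1], [6, 9, 8, 0, 0, 1], [0, 8, 2, 0, 0, 2], [2, 6, 2, 0, 0, 2], [4, 11, 7, 0, 0, 2], [5, 10, 7, 0, 0, 2]]),
   ([5, 6, 7, 8, 9, 10], [[3, 0, 8, 0, 0, 1], [6, 9, 8, 0, 0, 1], [0, 8, 2, 0, 0, 2], [2, 6, 2, 0, 0, 2], [4, 11, 7, 0, 0, 2], [5, 10, 7, 0, 0, 2]]),
   ([5, 6, 7, 9, 9, 9], [[3, 9, 11, 0, 0, 1], [5, 4, 11, 0, 0, 4], [8, 3, 9, 0, 0, 4], [9, 2, 9, 0, 0, 4], [10, 11, 11, 0, 0, 4], [4, 2, 0, 0, 0, 6]]),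
   ([5, 6, 8, 8, 8, 10], [[7, 2, 1, 0, 0, 2], [8, 1, 1, 0, 0, 2], [3, 5, 1, 0, 0, 3], [11, 9, 1, 0, 0, 3], [1, 2, 4, 0, 0, 5], [8, 7, 4, 0, 0, 5]]),
   ([5, 6, 8, 8, 9, 9], [[0, 8, 2, 0, 0, 2], [2, 6, 2, 0, 0, 2], [7, 4, 11, 0, 0, 2], [10, 1, 11, 0, 0, 2], [1, 7, 11, 0, 0, 5], [0, 0, 6, 0, 0, 6]]),
   ([5, 7, 7, 7, 9, 10], [[0, 5, 7, 0, 0, 0], [0, 7, 5, 0, 0, 0], [3, 0, 8, 0, 0, 1], [3, 8, 0, 0, 0, 1], [8, 1, 1, 0, 0, 2], [7, 3, 11, 0, 0, 3]]),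
   ([5, 7, 7, 8, 8, 10], [[0, 5, 7, 0, 0, 0], [0, 7, 5, 0, 0, 0], [3, 0, 8, 0, 0, 1], [3, 8, 0, 0, 0, 1], [8, 1, 1, 0, 0, 2], [7, 3, 11, 0, 0, 3]]),
   ([5, 7, 7, 8, 9, 9], [[0, 5, 7, 0, 0, 0], [0, 7, 5, 0, 0, 0], [2, 4, 5, 0, 0, 1], [2, 5, 4, 0, 0, 1], [1, 3, 5, 0, 0, 3], [1, 5, 3, 0, 0, 3]]),
   ([5, 7, 8, 8, 8, 9], [[2, 6, 3, 0, 0, 1], [10, 3, 10, 0, 0, 1], [7, 2, 1, 0, 0, 2], [7, 11, 3, 0, 0, 3], [2, 1, 5, 0, 0, 4], [0, 0, 6, 0, 0, 6]]),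
   ([5, 8, 8, 8, 8, 8], [[0, 1, 11, 0, 0, 0], [0, 11, 1, 0, 0, 0], [0, 0, 11, 0, 0, 1], [0, 11, 0, 0, 0, 1], [7, 2, 2, 0, 0, 1], [6, 6, 10, 0, 0, 2]]),
   ([6, 6, 6, 7, 10, 10], [[0, 3, 9, 0, 0, 0], [0, 9, 3, 0, 0, 0], [3, 0, 9, 0, 0, 0], [3, 9, 0, 0, 0, 0], [9, 0, 3, 0, 0, 0], [9, 3, 0, 0, 0, 0]]),
   ([6, 6, 6, 8, 9, 10], [[0, 3, 9, 0, 0, 0], [0, 9, 3, 0, 0, 0], [3, 0, 9, 0, 0, 0], [3, 9, 0, 0, 0, 0], [9, 0, 3, 0, 0, 0], [9, 3, 0, 0, 0, 0]]),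
   ([6, 6, 6, 9, 9, 9], [[0, 3, 9, 0, 0, 0], [0, 9, 3, 0, 0, 0], [3, 0, 9, 0, 0, 0], [3, 9, 0, 0, 0, 0], [9, 0, 3, 0, 0, 0], [9, 3, 0, 0, 0, 0]]),
   ([6, 6, 7, 7, 9, 10], [[2, 7, 3, 0, 0, 0], [3, 9, 0, 0, 0, 0], [5, 10, 9, 0, 0, 0], [7, 2, 3, 0, 0, 0], [9, 3, 0, 0, 0, 0], [10, 5, 9, 0, 0, 0]])]

/-- Solutions for the prime 11, part 11. -/
def sols11p11 : List (List Nat × List (List Nat)) :=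
  [([6, 6, 7, 8, 8, 10], [[2, 7, 3, 0, 0, 0], [3, 9, 0, 0, 0, 0], [5, 10, 9, 0, 0, 0], [7, 2, 3, 0, 0, 0], [9, 3, 0, 0, 0, 0], [10, 5, 9, 0, 0, 0]]),
   ([6, 6, 7, 8, 9, 9], [[2, 7, 3, 0, 0, 0], [3, 9, 0, 0, 0, 0], [5, 10, 9, 0, 0, 0], [7, 2, 3, 0, 0, 0], [9, 3, 0, 0, 0, 0], [10, 5, 9, 0, 0, 0]]),
   ([6, 6, 8, 8, 8, 9], [[3, 9, 0, 0, 0, 0], [9, 3, 0, 0, 0, 0], [0, 8, 2, 0, 0, 2], [8, 0, 2, 0, 0, 2], [2, 11, 8, 0, 0, 3], [3, 5, 1, 0, 0, 3]]),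
   ([6, 7, 7, 7, 8, 10], [[0, 5, 7, 0, 0, 0], [0, 7, 5, 0, 0, 0], [8, 0, 2, 0, 0, 2], [8, 2, 0, 0, 0, 2], [3, 1, 4, 0, 0, 4], [3, 4, 1, 0, 0, 4]]),
   ([6, 7, 7, 7, 9, 9], [[0, 5, 7, 0, 0, 0], [0, 7, 5, 0, 0, 0], [10, 3, 10, 0, 0, 1], [10, 10, 3, 0, 0, 1], [4, 2, 3, 0, 0, 3], [4, 3, 2, 0, 0, 3]]),
   ([6, 7, 7, 8, 8, 9], [[0, 5, 7, 0, 0, 0], [0, 7, 5, 0, 0, 0], [10, 3, 10, 0, 0, 1], [10, 10, 3, 0, 0, 1], [4, 2, 3, 0, 0, 3], [4, 3, 2, 0, 0, 3]]),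
   ([6, 7, 8, 8, 8, 8], [[0, 0, 11, 0, 0, 1], [5, 3, 3, 0, 0, 1], [6, 6, 10, 0, 0, 2], [10, 5, 7, 0, 0, 2], [0, 4, 5, 0, 0, 3], [4, 2, 3, 0, 0, 3]]),
   ([6, 10, 10, 10, 10, 10], [[7, 7, 7, 0, 1, 2], [0, 8, 11, 0, 1, 4], [0, 11, 8, 0, 1, 4], [11, 9, 10, 0, 1, 5], [11, 10, 9, 0, 1, 5], [7, 2, 7, 0, 1, 7]]),
   ([7, 7, 7, 7, 7, 10], [[0, 5, 7, 0, 0, 0], [0, 7, 5, 0, 0, 0], [5, 0, 7, 0, 0, 0], [5, 7, 0, 0, 0, 0], [7, 0, 5, 0, 0, 0], [7, 5, 0, 0, 0, 0]]),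
   ([7, 7, 7, 7, 8, 9], [[0, 5, 7, 0, 0, 0], [0, 7, 5, 0, 0, 0], [5, 0, 7, 0, 0, 0], [5, 7, 0, 0, 0, 0], [7, 0, 5, 0, 0, 0], [7, 5, 0, 0, 0, 0]]),
   ([7, 7, 7, 8, 8, 8], [[0, 5, 7, 0, 0, 0], [0, 7, 5, 0, 0, 0], [5, 0, 7, 0, 0, 0], [5, 7, 0, 0, 0, 0], [7, 0, 5, 0, 0, 0], [7, 5, 0, 0, 0, 0]]),
   ([7, 9, 10, 10, 10, 10], [[6, 0, 6, 0, 0, 0], [1, 3, 5, 0, 0, 3], [10, 4, 7, 0, 0, 3], [9, 5, 6, 0, 0, 4], [1, 3, 3, 0, 0, 5], [2, 8, 9, 0, 0, 5]]),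
   ([8, 8, 10, 10, 10, 10], [[1, 11, 0, 0, 0, 0], [11, 1, 0, 0, 0, 0], [2, 10, 11, 0, 0, 1], [10, 2, 11, 0, 0, 1], [4, 8, 10, 0, 0, 2], [8, 4, 10, 0, 0, 2]]),
   ([8, 9, 9, 10, 10, 10], [[6, 0, 6, 0, 0, 0], [6, 6, 0, 0, 0, 0], [10, 4, 6, 0, 0, 4], [10, 6, 4, 0, 0, 4], [2, 1, 4, 0, 0, 5], [2, 4, 1, 0, 0, 5]]),
   ([9, 9, 9, 9, 10, 10], [[3, 3, 5, 0, 0, 1], [3, 5, 3, 0, 0, 1], [5, 3, 3, 0, 0, 1], [3, 6, 9, 0, 0, 6], [3, 9, 6, 0, 0, 6], [6, 3, 9, 0, 0, 6]])]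

/-- Solutions for the prime 11. -/
def sols11 : List (List Nat × List (List Nat)) :=
  sols11p0 ++ sols11p1 ++ sols11p2 ++ sols11p3 ++ sols11p4 ++ sols11p5 ++ sols11p6 ++ sols11p7 ++ sols11p8 ++ sols11p9 ++ sols11p10 ++ sols11p11

/-- Powers of a generator of the circle for the prime 11. -/
def circ11 : List (Nat × Nat) := [(1, 0), (3, 2), (6, 1), (0, 4), (5, 1), (8, 2), (10, 0), (8, 9), (5, 10), (0, 7), (6, 10), (3, 9)]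

end CfsgLib.SUSix96.Mono
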